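import Groth.Prelude.Def_CAlgX
import Mathlib.RingTheory.Smooth.Kaehler
import Mathlib.RingTheory.LocalRing.ResidueField.Basic

/-!
# Injectivity of `H₁(L_{K/A}) → H₁(L_{K/B})` for formally smooth `A → B`

`map_injective_of_lift`: for `A → B → K` with `B → K` surjective such that `B → K` lifts along square-zero
extensions of `K` by `A`-algebras, the map `H₁(L_{K/A}) → H₁(L_{K/B})` is injective.
-/

set_option autoImplicit false
universe u

open Algebra

namespace K70.AdicH1

theorem map_injective_of_lift {A B K : Type u} [CommRing A] [CommRing B] [CommRing K] [Algebra A B]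
    [Algebra A K] [Algebra B K] [IsScalarTower A B K]
    (hsurj : Function.Surjective (algebraMap B K))
    (hlift : ∀ (E : Type u) [CommRing E] [Algebra A E] (π : E →ₐ[A] K), Function.Surjective π →
      RingHom.ker π ^ 2 = ⊥ → ∃ χ : B →ₐ[A] E, π.comp χ = IsScalarTower.toAlgHom A B K) :
    Function.Injective (Algebra.H1Cotangent.map A B K K) := by
  let P : Extension A K := (Generators.self A K).toExtension
  let PA : Extension A K :=
    { Ring := B
      σ := Function.surjInv hsurj
      algebraMap_σ := Function.surjInv_eq hsurj }
  let PB : Extension B K :=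
    { Ring := B
      σ := Function.surjInv hsurj
      algebraMap_σ := Function.surjInv_eq hsurj }
  let f : P.Hom PA := PA.defaultHom
  let f' : P.Hom PB :=
    { toRingHom := f.toRingHom
      toRingHom_algebraMap := fun x ↦ f.toRingHom_algebraMap x
      algebraMap_toRingHom := fun x ↦ f.algebraMap_toRingHom x }
  obtain ⟨χ, hχ⟩ := hlift P.infinitesimal.Ring (IsScalarTower.toAlgHom A P.infinitesimal.Ring K)
    P.infinitesimal.algebraMap_surjective (by
      change P.infinitesimal.ker ^ 2 = ⊥
      rw [Extension.ker_infinitesimal]
      exact Ideal.cotangentIdeal_square _)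
  let s : PA.Hom P.infinitesimal :=
    { toRingHom := χ.toRingHom
      toRingHom_algebraMap := fun x ↦ χ.commutes x
      algebraMap_toRingHom := fun x ↦ congrArg (fun g : B →ₐ[A] K ↦ g x) hχ }
  rw [injective_iff_map_eq_zero]
  intro x hx
  apply (Extension.H1Cotangent.map_toInfinitesimal_bijective P).1
  rw [map_zero]
  have h1 : Extension.H1Cotangent.map f' x = 0 := by
    have h2 : Extension.H1Cotangent.map f' =
        Extension.H1Cotangent.map (PB.defaultHom.comp
          (Generators.defaultHom (Generators.self A K) (Generators.self B K)).toExtensionHom) :=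
      Extension.H1Cotangent.map_eq _ _
    rw [h2, Extension.H1Cotangent.map_comp_apply]
    have h3 : Extension.H1Cotangent.map
      (Generators.defaultHom (Generators.self A K) (Generators.self B K)).toExtensionHom x = 0 := hx
    rw [h3, map_zero]
  have h4 : Extension.H1Cotangent.map f x = 0 := by
    apply Extension.h1Cotangentι_ext
    obtain ⟨y, hy⟩ := Extension.Cotangent.mk_surjective x.1
    have h5 := congrArg Subtype.val h1
    have h6 : Extension.Cotangent.map f' x.1 = 0 := h5
    change Extension.Cotangent.map f x.1 = 0
    rw [← hy, Extension.Cotangent.map_mk, Extension.Cotangent.mk_eq_zero_iff] at h6 ⊢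
    exact h6
  rw [Extension.H1Cotangent.map_eq P.toInfinitesimal (s.comp f),
    Extension.H1Cotangent.map_comp_apply, h4, map_zero]

end K70.AdicH1
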