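import Groth.Agent.CAlg.K70.IndepLift
import Groth.Agent.CalgB.RegPar
import Groth.Agent.CalgB.RegQuot
import Groth.Agent.S4575
import Mathlib.Algebra.MvPolynomial.PDeriv
import Mathlib.RingTheory.RegularLocalRing.Polynomial
import Mathlib.RingTheory.Kaehler.Basic

/-!
# Flatness over a polynomial ring mapping to differentially independent elements

`flat_and_regular`: `A` a regular local `k`-algebra, adically formally smooth over `k`,
`φ : k[y] → A` such that the prime `𝔭 = φ⁻¹(m)` is stable under the partial derivatives. Then `A` is flat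
over `k[y]` and `A / 𝔭 A` is regular.
-/

set_option autoImplicit false
universe u

open IsLocalRing MvPolynomial

namespace K70.DiffBasis

theorem flat_and_regular_of_indep {R S : Type u} [CommRing R] [CommRing S] [IsRegularLocalRing R]
    [IsRegularLocalRing S] [Algebra R S] [IsLocalHom (algebraMap R S)] {d : ℕ} (f : Fin d → R)
    (hspan : Ideal.span (Set.range f) = maximalIdeal R) (hd : ringKrullDim R = d)
    (hind : ∀ c : Fin d → S, ∑ i, c i * algebraMap R S (f i) ∈ maximalIdeal S ^ 2 →
      ∀ i, c i ∈ maximalIdeal S) :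
    Module.Flat R S ∧ IsRegularLocalRing (S ⧸ (maximalIdeal R).map (algebraMap R S)) := by
  have hf : ∀ i, f i ∈ maximalIdeal R := fun i ↦ hspan ▸ Ideal.subset_span ⟨i, rfl⟩
  have hle : (maximalIdeal R).map (algebraMap R S) ≤ maximalIdeal S := map_maximalIdeal_le _
  have hmap : (maximalIdeal R).map (algebraMap R S) =
      Ideal.span (Set.range fun i ↦ algebraMap R S (f i)) := by
    rw [← hspan, Ideal.map_span, ← Set.range_comp]
    rfl
  obtain ⟨h1, h2⟩ := Groth.Agent.CalgB.RegQuot.isRegularLocalRing_quotient (P := S)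
    (fun i ↦ algebraMap R S (f i)) (fun i ↦ hle (Ideal.mem_map_of_mem _ (hf i))) (fun c hc ↦ by
      rw [finsum_eq_sum_of_fintype] at hc
      exact hind c hc)
  rw [← hmap] at h1 h2
  refine ⟨?_, h1⟩
  obtain ⟨e, he⟩ := Groth.Agent.CalgA.RegBasic.ringKrullDim_eq_natCast
    (S ⧸ (maximalIdeal R).map (algebraMap R S))
  obtain ⟨l, hl, hl'⟩ := Groth.Agent.CalgB.RegPar.exists_list _ he
  choose y hy using fun i : Fin e ↦ Ideal.Quotient.mk_surjective (l.get (i.cast hl.symm))
  refine (Groth.Agent.CalgB.RegPar.flat_and_regular_fibre (R := R) (S := S) e y ?_ ?_).1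
  · have h3 : (Ideal.span (Set.range y)).map
        (Ideal.Quotient.mk ((maximalIdeal R).map (algebraMap R S))) =
        maximalIdeal (S ⧸ (maximalIdeal R).map (algebraMap R S)) := by
      rw [← hl', Ideal.map_span, ← Set.range_comp, Ideal.ofList]
      congr 1
      ext x
      constructor
      · rintro ⟨i, rfl⟩
        change Ideal.Quotient.mk _ (y i) ∈ l
        rw [hy]
        exact List.get_mem _ _
      · intro hx
        obtain ⟨i, hi⟩ := List.mem_iff_get.mp hx
        refine ⟨i.cast hl, ?_⟩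
        change Ideal.Quotient.mk _ (y (i.cast hl)) = x
        rw [hy, ← hi]
        rfl
    have h4 := congrArg (Ideal.comap (Ideal.Quotient.mk ((maximalIdeal R).map (algebraMap R S)))) h3
    rw [Ideal.comap_map_of_surjective _ Ideal.Quotient.mk_surjective, ← RingHom.ker_eq_comap_bot,
      Ideal.mk_ker] at h4
    rw [sup_comm, h4]
    exact ((local_hom_TFAE (Ideal.Quotient.mk ((maximalIdeal R).map (algebraMap R S)))).out 0 4 rfl
      rfl).mp (IsLocalHom.of_surjective _ Ideal.Quotient.mk_surjective)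
  · rw [← h2, he, hd, Nat.card_fin, add_comm]

theorem derivation_aeval {k S M : Type*} [CommRing k] [CommRing S] [Algebra k S] [AddCommGroup M]
    [Module S M] [Module k M] [IsScalarTower k S M] (D : Derivation k S M) {n : ℕ} (y : Fin n → S)
    (f : MvPolynomial (Fin n) k) : D (aeval y f) = ∑ i, aeval y (pderiv i f) • D (y i) := by
  induction f using MvPolynomial.induction_on with
  | C a => simp
  | add p q hp hq => simp [hp, hq, add_smul, Finset.sum_add_distrib]
  | mul_X p j hp =>
    rw [map_mul, aeval_X, D.leibniz, hp, Finset.smul_sum]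
    have h1 : ∀ i, aeval y (pderiv i (p * X j)) • D (y i) =
        (if i = j then aeval y p • D (y j) else 0) + y j • aeval y (pderiv i p) • D (y i) := by
      intro i
      rw [pderiv_mul, map_add, map_mul, map_mul, aeval_X, add_smul, add_comm, mul_comm _ (y j),
        mul_smul (y j)]
      congr 1
      by_cases hij : i = j
      · subst hij
        simp
      · rw [if_neg hij, pderiv_X_of_ne (Ne.symm hij)]
        simp
    rw [Finset.sum_congr rfl fun i _ ↦ h1 i, Finset.sum_add_distrib]
    simp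

theorem derivation_kill {k : Type u} [Field k] {n : ℕ} (𝔭 : Ideal (MvPolynomial (Fin n) k)) [𝔭.IsPrime]
    (hp : ∀ f ∈ 𝔭, ∀ i, pderiv i f ∈ 𝔭) (N : Type u) [AddCommGroup N]
    [Module (Localization.AtPrime 𝔭) N] [Module k N] [IsScalarTower k (Localization.AtPrime 𝔭) N]
    (D : Derivation k (Localization.AtPrime 𝔭) N)
    (hN : ∀ a ∈ maximalIdeal (Localization.AtPrime 𝔭), ∀ n : N, a • n = 0) :
    ∀ a ∈ maximalIdeal (Localization.AtPrime 𝔭), D a = 0 := by
  intro a ha
  obtain ⟨f, s, rfl⟩ := IsLocalization.exists_mk'_eq 𝔭.primeCompl a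
  have hf : f ∈ 𝔭 := (IsLocalization.AtPrime.mk'_mem_maximal_iff _ 𝔭 f s).mp ha
  have hmem : ∀ g ∈ 𝔭, algebraMap _ (Localization.AtPrime 𝔭) g ∈
      maximalIdeal (Localization.AtPrime 𝔭) := fun g hg ↦ by
    rw [← Localization.AtPrime.map_eq_maximalIdeal]
    exact Ideal.mem_map_of_mem _ hg
  have h1 : ∀ g : MvPolynomial (Fin n) k,
      aeval (fun i ↦ algebraMap (MvPolynomial (Fin n) k) (Localization.AtPrime 𝔭) (X i)) g =
        algebraMap (MvPolynomial (Fin n) k) (Localization.AtPrime 𝔭) g := fun g ↦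
    (congrArg (fun F : MvPolynomial (Fin n) k →ₐ[k] Localization.AtPrime 𝔭 ↦ F g)
      (MvPolynomial.aeval_unique (IsScalarTower.toAlgHom k (MvPolynomial (Fin n) k)
        (Localization.AtPrime 𝔭)))).symm
  have h2 : D (algebraMap _ (Localization.AtPrime 𝔭) f) = 0 := by
    rw [← h1, derivation_aeval]
    refine Finset.sum_eq_zero fun i _ ↦ ?_
    rw [h1]
    exact hN _ (hmem _ (hp f hf i)) _
  have h3 : algebraMap _ (Localization.AtPrime 𝔭) (s : MvPolynomial (Fin n) k) *
      IsLocalization.mk' (Localization.AtPrime 𝔭) f s = algebraMap _ (Localization.AtPrime 𝔭) f :=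
    IsLocalization.mk'_spec' _ f s
  rw [← h3, D.leibniz, hN _ ha, add_zero] at h2
  exact (IsUnit.smul_eq_zero (IsLocalization.map_units (Localization.AtPrime 𝔭) s)).mp h2

theorem flat_and_regular {k A : Type u} [Field k] [CommRing A] [IsRegularLocalRing A] [Algebra k A]
    (hfs : CAlgX.IsAdicFormallySmooth k A (maximalIdeal A)) {n : ℕ}
    (φ : MvPolynomial (Fin n) k →ₐ[k] A)
    (hp : ∀ f, φ f ∈ maximalIdeal A → ∀ i, φ (pderiv i f) ∈ maximalIdeal A) :
    letI := φ.toRingHom.toAlgebra
    Module.Flat (MvPolynomial (Fin n) k) A ∧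
      IsRegularLocalRing (A ⧸ Ideal.map φ.toRingHom (Ideal.comap φ.toRingHom (maximalIdeal A))) := by
  let 𝔭 : Ideal (MvPolynomial (Fin n) k) := Ideal.comap φ.toRingHom (maximalIdeal A)
  have h𝔭 : 𝔭.IsPrime := Ideal.IsPrime.comap _
  let _ : Algebra (MvPolynomial (Fin n) k) A := φ.toRingHom.toAlgebra
  have hst0 : IsScalarTower k (MvPolynomial (Fin n) k) A :=
    .of_algebraMap_eq fun x ↦ (φ.commutes x).symm
  have hunit : ∀ s : 𝔭.primeCompl, IsUnit (algebraMap (MvPolynomial (Fin n) k) A s) := by
    intro s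
    by_contra h
    exact s.2 h
  let _ : Algebra (Localization.AtPrime 𝔭) A := (IsLocalization.lift hunit).toAlgebra
  have hst1 : IsScalarTower (MvPolynomial (Fin n) k) (Localization.AtPrime 𝔭) A :=
    .of_algebraMap_eq fun x ↦ (IsLocalization.lift_eq hunit x).symm
  have hst2 : IsScalarTower k (Localization.AtPrime 𝔭) A :=
    .of_algebraMap_eq fun x ↦ by
      rw [IsScalarTower.algebraMap_apply k (MvPolynomial (Fin n) k) (Localization.AtPrime 𝔭),
        ← IsScalarTower.algebraMap_apply (MvPolynomial (Fin n) k) (Localization.AtPrime 𝔭) A,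
        ← IsScalarTower.algebraMap_apply]
  have hle : (maximalIdeal (Localization.AtPrime 𝔭)).map (algebraMap (Localization.AtPrime 𝔭) A) =
      𝔭.map (algebraMap (MvPolynomial (Fin n) k) A) := by
    rw [← Localization.AtPrime.map_eq_maximalIdeal, Ideal.map_map, ← IsScalarTower.algebraMap_eq]
  have hlocal : IsLocalHom (algebraMap (Localization.AtPrime 𝔭) A) := by
    rw [((local_hom_TFAE (algebraMap (Localization.AtPrime 𝔭) A)).out 0 2 rfl rfl), hle,
      Ideal.map_le_iff_le_comap]
    exact le_rfl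
  have hreg : IsRegularLocalRing (Localization.AtPrime 𝔭) := inferInstance
  obtain ⟨d, hd⟩ := Groth.Agent.CalgA.RegBasic.ringKrullDim_eq_natCast (Localization.AtPrime 𝔭)
  obtain ⟨l, hl, hl'⟩ := Groth.Agent.CalgB.RegPar.exists_list _ hd
  let f : Fin d → Localization.AtPrime 𝔭 := fun i ↦ l.get (i.cast hl.symm)
  have hspan : Ideal.span (Set.range f) = maximalIdeal (Localization.AtPrime 𝔭) := by
    rw [← hl', Ideal.ofList]
    congr 1
    ext x
    constructor
    · rintro ⟨i, rfl⟩
      exact List.get_mem _ _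
    · intro hx
      obtain ⟨i, hi⟩ := List.mem_iff_get.mp hx
      exact ⟨i.cast hl, hi⟩
  have hf : ∀ i, f i ∈ maximalIdeal (Localization.AtPrime 𝔭) := fun i ↦
    hspan ▸ Ideal.subset_span ⟨i, rfl⟩
  have hli := Groth.Agent.S4575.linearIndependent_of_span f hf hspan (by rw [hd, Fintype.card_fin])
  have hind : ∀ c : Fin d → Localization.AtPrime 𝔭,
      ∑ i, c i * f i ∈ maximalIdeal (Localization.AtPrime 𝔭) ^ 2 →
        ∀ i, c i ∈ maximalIdeal (Localization.AtPrime 𝔭) := by
    intro c hc i
    rw [Fintype.linearIndependent_iff] at hli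
    have h1 := hli (fun i ↦ residue _ (c i)) ?_ i
    · exact (residue_eq_zero_iff _).mp h1
    · have h2 : (maximalIdeal (Localization.AtPrime 𝔭)).toCotangent
          (∑ i, c i • (⟨f i, hf i⟩ : maximalIdeal (Localization.AtPrime 𝔭))) = 0 := by
        rw [Ideal.toCotangent_eq_zero]
        convert hc using 1
        rw [AddSubmonoidClass.coe_finsetSum]
        rfl
      rw [← h2, map_sum]
      refine Finset.sum_congr rfl fun i _ ↦ ?_
      rw [map_smul]
      rfl
  have hindA := IndepLift.indep_of_adic (k := k) (A₀ := Localization.AtPrime 𝔭) (A := A) hfs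
    (fun N _ _ _ _ D hN ↦ derivation_kill 𝔭 (fun g hg i ↦ hp g hg i) N D hN) f hf hind
  obtain ⟨h1, h2⟩ := flat_and_regular_of_indep (R := Localization.AtPrime 𝔭) (S := A) f hspan hd hindA
  refine ⟨?_, ?_⟩
  · have : Module.Flat (MvPolynomial (Fin n) k) (Localization.AtPrime 𝔭) :=
      IsLocalization.flat _ 𝔭.primeCompl
    exact Module.Flat.trans (MvPolynomial (Fin n) k) (Localization.AtPrime 𝔭) A
  · rw [hle] at h2
    exact h2

end K70.DiffBasis
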