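import Groth.Agent.CAlg.K70.FinFree
import Groth.Agent.CalgB.GRingComplete
import Groth.Agent.CalgB.RegHom8
import Groth.Prelude.Def_EGA4b
import Mathlib.RingTheory.Ideal.GoingDown
import Mathlib.RingTheory.Ideal.GoingUp

/-!
# Regularity of completion maps tested on finite free extensions

`isRegularHom_cpl_of_finite_free`: if the formal fibres of the local rings of all finite free `R`-algebras
are regular, then `R → (R_p)^` is a regular homomorphism.
-/

set_option autoImplicit false
universe u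

open TensorProduct IsLocalRing

namespace K70.FinFreeGRing

open Groth.Agent.CalgB Groth.Agent.CalgB.CplFiniteLocal Groth.Agent.CalgB.RegHom4
  Groth.Agent.CalgB.RegHom6 Groth.Agent.CalgB.RegHom7 Groth.Agent.CalgB.RegHom8

/-- Regularity of `K ⊗[R] S` can be checked on a flat cover of `S`. -/
theorem isRegularRing_of_cover {R S K : Type u} [CommRing R] [CommRing S] [CommRing K] [Algebra R S]
    [Algebra R K] (hN : IsNoetherianRing (K ⊗[R] S))
    (hcov : ∀ (Q : Ideal S) [Q.IsPrime], ∃ (T : Type u) (_ : CommRing T) (_ : Algebra R T)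
      (_ : Algebra S T) (_ : IsScalarTower R S T) (Q' : Ideal T) (_ : Q'.IsPrime),
      Module.Flat S T ∧ Q'.LiesOver Q ∧ IsRegularRing (K ⊗[R] T)) : IsRegularRing (K ⊗[R] S) := by
  have hN' : IsNoetherianRing (S ⊗[R] K) :=
    isNoetherianRing_of_ringEquiv _ (Algebra.TensorProduct.comm R K S).toRingEquiv
  suffices h : IsRegularRing (S ⊗[R] K) from
    IsRegularRing.of_ringEquiv (Algebra.TensorProduct.comm R S K).toRingEquiv
  rw [isRegularRing_iff]
  intro P hP
  obtain ⟨T, _, _, _, _, Q', hQ', hflat, hover, h1⟩ := hcov (P.under S)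
  obtain ⟨W, hW, hWP, -⟩ := exists_prime_tensorProduct (P.under S) P Q'
  let e1 : (S ⊗[R] K) ⊗[S] T ≃+* K ⊗[R] T :=
    ((Algebra.TensorProduct.comm S (S ⊗[R] K) T).toRingEquiv.trans
      (Algebra.TensorProduct.cancelBaseChange R S S T K).toRingEquiv).trans
      (Algebra.TensorProduct.comm R T K).toRingEquiv
  have h2 : IsRegularRing ((S ⊗[R] K) ⊗[S] T) := IsRegularRing.of_ringEquiv e1.symm
  have : W.LiesOver P := ⟨hWP.symm⟩
  exact isRegularLocalRing_atPrime_of_flat P W

section Cover

variable {R R' : Type u} [CommRing R] [CommRing R'] [IsNoetherianRing R] [IsNoetherianRing R']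
  [Algebra R R'] [Module.Finite R R']

omit [IsNoetherianRing R'] [Module.Finite R R'] in
theorem exists_smul_sub_mem (p : Ideal R) [p.IsPrime] (x : R' ⊗[R] Cpl p) :
    ∃ (t : R) (r : R'), t ∉ p ∧ algebraMap R' (R' ⊗[R] Cpl p) (algebraMap R R' t) * x -
      algebraMap R' (R' ⊗[R] Cpl p) r ∈
        (maximalIdeal (Cpl p)).map (Algebra.TensorProduct.includeRight : Cpl p →ₐ[R] R' ⊗[R] Cpl p) := by
  induction x using TensorProduct.induction_on with
  | zero => exact ⟨1, 0, fun h ↦ (Ideal.ne_top_iff_one p).mp (Ideal.IsPrime.ne_top inferInstance) h, by simp⟩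
  | tmul r c =>
    obtain ⟨t, b, ht, h⟩ := exists_sub_mem_pow p 1 c
    refine ⟨t, algebraMap R R' b * r, ht, ?_⟩
    rw [pow_one] at h
    have h1 : algebraMap R' (R' ⊗[R] Cpl p) (algebraMap R R' t) * (r ⊗ₜ[R] c) -
        algebraMap R' (R' ⊗[R] Cpl p) (algebraMap R R' b * r) =
        algebraMap R' (R' ⊗[R] Cpl p) r *
          (Algebra.TensorProduct.includeRight : Cpl p →ₐ[R] R' ⊗[R] Cpl p)
            (algebraMap R (Cpl p) t * c - algebraMap R (Cpl p) b) := by
      have e1 : (Algebra.TensorProduct.includeRight : Cpl p →ₐ[R] R' ⊗[R] Cpl p)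
          (algebraMap R (Cpl p) t * c - algebraMap R (Cpl p) b) =
          algebraMap R' (R' ⊗[R] Cpl p) (algebraMap R R' t) * (1 ⊗ₜ[R] c) -
          algebraMap R' (R' ⊗[R] Cpl p) (algebraMap R R' b) := by
        have e2 := (Algebra.TensorProduct.includeRight : Cpl p →ₐ[R] R' ⊗[R] Cpl p).commutes t
        have e3 := (Algebra.TensorProduct.includeRight : Cpl p →ₐ[R] R' ⊗[R] Cpl p).commutes b
        rw [IsScalarTower.algebraMap_apply R R' (R' ⊗[R] Cpl p)] at e2 e3
        rw [map_sub, map_mul, e2, e3]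
        rfl
      have e4 : (r ⊗ₜ[R] c : R' ⊗[R] Cpl p) = algebraMap R' (R' ⊗[R] Cpl p) r * (1 ⊗ₜ[R] c) := by
        rw [Algebra.TensorProduct.algebraMap_apply, Algebra.TensorProduct.tmul_mul_tmul]
        simp
      rw [e1, e4, map_mul (algebraMap R' (R' ⊗[R] Cpl p)) (algebraMap R R' b) r]
      ring
    rw [h1]
    exact Ideal.mul_mem_left _ _ (Ideal.mem_map_of_mem _ h)
  | add x y hx hy =>
    obtain ⟨t, r, ht, h⟩ := hx
    obtain ⟨t', r', ht', h'⟩ := hy
    refine ⟨t * t', algebraMap R R' t' * r + algebraMap R R' t * r', fun h0 ↦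
      (Ideal.IsPrime.mem_or_mem inferInstance h0).elim ht ht', ?_⟩
    have h1 := add_mem (Ideal.mul_mem_left _ (algebraMap R' (R' ⊗[R] Cpl p) (algebraMap R R' t')) h)
      (Ideal.mul_mem_left _ (algebraMap R' (R' ⊗[R] Cpl p) (algebraMap R R' t)) h')
    convert h1 using 1
    simp only [map_add, map_mul]
    ring

theorem comap_psi_eq (p' : Ideal R') [p'.IsPrime]
    (n : Ideal (R' ⊗[R] Cpl (p'.comap (algebraMap R R')))) [hmax : n.IsMaximal]
    (hn : n.comap (algebraMap R' (R' ⊗[R] Cpl (p'.comap (algebraMap R R')))) = p') :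
    (maximalIdeal (Cpl p')).comap (CplFiniteFlat.psi (B := R') (cplHom (A := R) p')).toRingHom = n := by
  set ψ := (CplFiniteFlat.psi (B := R') (cplHom (A := R) p')) with hψ
  set m' := (maximalIdeal (Cpl p')).comap ψ.toRingHom with hm'
  have hm'p : m'.IsPrime := Ideal.IsPrime.comap _
  -- the maximal ideal of `(R_p)^` generates an ideal contained in both
  have hle1 : (maximalIdeal (Cpl (p'.comap (algebraMap R R')))).map
      (Algebra.TensorProduct.includeRight : Cpl (p'.comap (algebraMap R R')) →ₐ[R]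
        R' ⊗[R] Cpl (p'.comap (algebraMap R R'))) ≤ m' := by
    rw [Ideal.map_le_iff_le_comap]
    intro c hc
    change ψ (Algebra.TensorProduct.includeRight c) ∈ maximalIdeal (Cpl p')
    have h1 : ψ (Algebra.TensorProduct.includeRight c) = cplHom (A := R) p' c := by
      rw [hψ]
      simp [CplFiniteFlat.psi]
    rw [h1]
    exact (((local_hom_TFAE (cplHom (A := R) p').toRingHom).out 0 3 rfl rfl).mp inferInstance) hc
  have hle2 : (maximalIdeal (Cpl (p'.comap (algebraMap R R')))).map
      (Algebra.TensorProduct.includeRight : Cpl (p'.comap (algebraMap R R')) →ₐ[R]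
        R' ⊗[R] Cpl (p'.comap (algebraMap R R'))) ≤ n := by
    have hint : (Algebra.TensorProduct.includeRight : Cpl (p'.comap (algebraMap R R')) →ₐ[R]
        R' ⊗[R] Cpl (p'.comap (algebraMap R R'))).toRingHom.IsIntegral := by
      have h1 : (algebraMap (Cpl (p'.comap (algebraMap R R')))
          (Cpl (p'.comap (algebraMap R R')) ⊗[R] R')).IsIntegral :=
        algebraMap_isIntegral_iff.mpr inferInstance
      have h2 : (Algebra.TensorProduct.includeRight : Cpl (p'.comap (algebraMap R R')) →ₐ[R]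
        R' ⊗[R] Cpl (p'.comap (algebraMap R R'))).toRingHom =
          ((Algebra.TensorProduct.comm R (Cpl (p'.comap (algebraMap R R'))) R' : _ →+* _)).comp
          (algebraMap (Cpl (p'.comap (algebraMap R R'))) (Cpl (p'.comap (algebraMap R R')) ⊗[R] R')) := by
        ext c
        simp
      rw [h2]
      exact h1.trans _ _ (RingHom.isIntegral_of_surjective _
        (Algebra.TensorProduct.comm R (Cpl (p'.comap (algebraMap R R'))) R').surjective)
    have h3 : (n.comap (Algebra.TensorProduct.includeRight : Cpl (p'.comap (algebraMap R R')) →ₐ[R]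
        R' ⊗[R] Cpl (p'.comap (algebraMap R R'))).toRingHom).IsMaximal :=
      Ideal.isMaximal_comap_of_isIntegral_of_isMaximal' _ hint n
    rw [Ideal.map_le_iff_le_comap]
    exact (IsLocalRing.eq_maximalIdeal h3).ge
  have hcomap : m'.comap (algebraMap R' (R' ⊗[R] Cpl (p'.comap (algebraMap R R')))) = p' := by
    have h1 : ψ.toRingHom.comp (algebraMap R' (R' ⊗[R] Cpl (p'.comap (algebraMap R R')))) =
      algebraMap R' (Cpl p') := ψ.comp_algebraMap
    rw [hm', Ideal.comap_comap, h1, comap_maximalIdeal_cpl]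
  symm
  refine hmax.eq_of_le hm'p.ne_top fun x hx ↦ ?_
  obtain ⟨t, r, ht, h⟩ := exists_smul_sub_mem (p'.comap (algebraMap R R')) x
  have h1 : algebraMap R' (R' ⊗[R] Cpl (p'.comap (algebraMap R R'))) r ∈ n := by
    have h2 := n.sub_mem (n.mul_mem_left (algebraMap R' (R' ⊗[R] Cpl (p'.comap (algebraMap R R')))
      (algebraMap R R' t)) hx) (hle2 h)
    rwa [sub_sub_cancel] at h2
  have h3 : r ∈ p' := by rw [← hn]; exact h1
  have h4 : algebraMap R' (R' ⊗[R] Cpl (p'.comap (algebraMap R R'))) r ∈ m' := by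
    rw [← hcomap] at h3
    exact h3
  have h5 := m'.add_mem (hle1 h) h4
  rw [sub_add_cancel] at h5
  refine (hm'p.mem_or_mem h5).resolve_left fun h6 ↦ ht ?_
  have h7 : algebraMap R R' t ∈ m'.comap (algebraMap R' (R' ⊗[R] Cpl (p'.comap (algebraMap R R')))) := h6
  rw [hcomap] at h7
  exact h7

end Cover

end K70.FinFreeGRing
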