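import Groth.Agent.CAlg.K70.FinFreeGRing

/-!
# G-rings from the formal fibres of finite free extensions

`isGRing_of_finite_free`: if the formal fibres of the local rings of all finite free `R`-algebras
are regular, then `R` is a G-ring.
-/

set_option autoImplicit false
universe u

open TensorProduct IsLocalRing

namespace K70.FinFreeGRing2

open Groth.Agent.CalgB Groth.Agent.CalgB.CplFiniteLocal Groth.Agent.CalgB.RegHom4
  Groth.Agent.CalgB.RegHom6 Groth.Agent.CalgB.RegHom7 Groth.Agent.CalgB.RegHom8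

theorem isRegularRing_of_frac {A : Type u} [CommRing A] (T : Type u) [CommRing T] [Algebra A T]
    (L : Type u) [Field L] [Algebra A L]
    (hfrac : ∀ x : L, ∃ a b : A, algebraMap A L b ≠ 0 ∧ x * algebraMap A L b = algebraMap A L a)
    (h : ∀ (P : Ideal A) [P.IsPrime], IsRegularRing (P.ResidueField ⊗[A] T)) :
    IsRegularRing (L ⊗[A] T) := by
  let P : Ideal A := RingHom.ker (algebraMap A L)
  have hPp : P.IsPrime := RingHom.ker_isPrime _
  let f : P.ResidueField →ₐ[A] L := Ideal.ResidueField.liftₐ P (Algebra.ofId A L) le_rfl (by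
    intro x hx
    exact isUnit_iff_ne_zero.mpr fun h0 ↦ hx h0)
  have hf : Function.Bijective f := by
    refine ⟨f.toRingHom.injective, fun x ↦ ?_⟩
    obtain ⟨a, b, hb, hab⟩ := hfrac x
    refine ⟨algebraMap A _ a / algebraMap A _ b, ?_⟩
    rw [map_div₀, f.commutes, f.commutes, ← hab, mul_div_cancel_right₀ _ hb]
  have h1 := h P
  exact IsRegularRing.of_ringEquiv (Algebra.TensorProduct.congr (AlgEquiv.ofBijective f hf)
    (AlgEquiv.refl (R := A) (A₁ := T))).toRingEquiv

theorem isRegularRing_of_frac_localization {D : Type u} [CommRing D] (p' : Ideal D) [p'.IsPrime]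
    (T : Type u) [CommRing T] [Algebra D T] [Algebra (Localization.AtPrime p') T]
    [IsScalarTower D (Localization.AtPrime p') T]
    (h : ∀ (P : Ideal (Localization.AtPrime p')) [P.IsPrime],
      IsRegularRing (P.ResidueField ⊗[Localization.AtPrime p'] T))
    (L : Type u) [Field L] [Algebra D L]
    (hfrac : ∀ x : L, ∃ a b : D, algebraMap D L b ≠ 0 ∧ x * algebraMap D L b = algebraMap D L a) :
    IsRegularRing (L ⊗[D] T) := by
  by_cases hM0 : ∀ m : p'.primeCompl, algebraMap D L m ≠ 0
  · have hM : ∀ m : p'.primeCompl, IsUnit (algebraMap D L m) := fun m ↦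
      isUnit_iff_ne_zero.mpr (hM0 m)
    let g : Localization.AtPrime p' →+* L := IsLocalization.lift hM
    let _ : Algebra (Localization.AtPrime p') L := g.toAlgebra
    have : IsScalarTower D (Localization.AtPrime p') L :=
      .of_algebraMap_eq fun x ↦ (IsLocalization.lift_eq hM x).symm
    have h1 : IsRegularRing (L ⊗[Localization.AtPrime p'] T) := by
      refine isRegularRing_of_frac T L (fun x ↦ ?_) h
      obtain ⟨a, b, hb, hab⟩ := hfrac x
      refine ⟨algebraMap D _ a, algebraMap D _ b, ?_, ?_⟩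
      · rwa [← IsScalarTower.algebraMap_apply]
      · rwa [← IsScalarTower.algebraMap_apply, ← IsScalarTower.algebraMap_apply]
    exact IsRegularRing.of_ringEquiv
      (IsLocalization.algebraTensorEquiv p'.primeCompl (Localization.AtPrime p') L T).toRingEquiv
  · push Not at hM0
    obtain ⟨m, hm⟩ := hM0
    have hsub : Subsingleton (L ⊗[D] T) := by
      rw [← not_nontrivial_iff_subsingleton]
      intro hnt
      have h3 : algebraMap D (L ⊗[D] T) m = 0 := by
        rw [IsScalarTower.algebraMap_apply D L, hm, map_zero]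
      have h4 : IsUnit (algebraMap D (L ⊗[D] T) m) := by
        have h5 : algebraMap D (L ⊗[D] T) m = (Algebra.TensorProduct.includeRight :
          T →ₐ[D] L ⊗[D] T) (algebraMap D T m) := (AlgHom.commutes _ _).symm
        rw [h5, IsScalarTower.algebraMap_apply D (Localization.AtPrime p') T]
        exact ((IsLocalization.map_units (Localization.AtPrime p') m).map _).map _
      rw [h3] at h4
      exact not_isUnit_zero h4
    exact GRingComplete.isRegularRing_of_subsingleton _

section Cover

variable {R R' : Type u} [CommRing R] [CommRing R'] [IsNoetherianRing R] [IsNoetherianRing R']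
  [Algebra R R'] [Module.Finite R R']

theorem exists_cover (p : Ideal R) [p.IsPrime] (p' : Ideal R') [p'.IsPrime]
    (hpp : p'.comap (algebraMap R R') = p) (n : Ideal (R' ⊗[R] Cpl p)) [n.IsMaximal]
    (hn : n.comap (algebraMap R' (R' ⊗[R] Cpl p)) = p') (Q : Ideal (R' ⊗[R] Cpl p)) [Q.IsPrime]
    (hQ : Q ≤ n) (L : Type u) [CommRing L] [Algebra R' L] (h : IsRegularRing (L ⊗[R'] Cpl p')) :
    ∃ (T : Type u) (_ : CommRing T) (_ : Algebra R' T)
      (_ : Algebra (R' ⊗[R] Cpl p) T) (_ : IsScalarTower R' (R' ⊗[R] Cpl p) T) (Q' : Ideal T)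
      (_ : Q'.IsPrime), Module.Flat (R' ⊗[R] Cpl p) T ∧ Q'.LiesOver Q ∧
        IsRegularRing (L ⊗[R'] T) := by
  subst hpp
  let ψ := CplFiniteFlat.psi (B := R') (cplHom (A := R) p')
  let _ : Algebra (R' ⊗[R] Cpl (p'.comap (algebraMap R R'))) (Cpl p') := ψ.toRingHom.toAlgebra
  have hst : IsScalarTower R' (R' ⊗[R] Cpl (p'.comap (algebraMap R R'))) (Cpl p') :=
    .of_algebraMap_eq fun x ↦ (ψ.commutes x).symm
  have hflat : Module.Flat (R' ⊗[R] Cpl (p'.comap (algebraMap R R'))) (Cpl p') :=
    psi_flat (A := R) p'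
  have hm := FinFreeGRing.comap_psi_eq p' n hn
  have : (maximalIdeal (Cpl p')).LiesOver n := ⟨hm.symm⟩
  obtain ⟨Q', hQ'le, hQ'p, hQ'⟩ := Ideal.exists_ideal_le_liesOver_of_le (maximalIdeal (Cpl p')) hQ
  exact ⟨Cpl p', inferInstance, inferInstance, inferInstance, hst, Q', hQ'p, hflat, hQ', h⟩

omit [IsNoetherianRing R'] in
theorem comap_of_isMaximal (p : Ideal R) [p.IsPrime] (n : Ideal (R' ⊗[R] Cpl p)) [n.IsMaximal] :
    (n.comap (algebraMap R' (R' ⊗[R] Cpl p))).comap (algebraMap R R') = p := by
  have hint : (Algebra.TensorProduct.includeRight : Cpl p →ₐ[R] R' ⊗[R] Cpl p).toRingHom.IsIntegral := by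
    have h1 : (algebraMap (Cpl p) (Cpl p ⊗[R] R')).IsIntegral :=
      algebraMap_isIntegral_iff.mpr inferInstance
    have h2 : (Algebra.TensorProduct.includeRight : Cpl p →ₐ[R] R' ⊗[R] Cpl p).toRingHom =
        ((Algebra.TensorProduct.comm R (Cpl p) R' : _ →+* _)).comp
        (algebraMap (Cpl p) (Cpl p ⊗[R] R')) := by
      ext c
      simp
    rw [h2]
    exact h1.trans _ _ (RingHom.isIntegral_of_surjective _
      (Algebra.TensorProduct.comm R (Cpl p) R').surjective)
  have h3 : (n.comap (Algebra.TensorProduct.includeRight :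
      Cpl p →ₐ[R] R' ⊗[R] Cpl p).toRingHom).IsMaximal :=
    Ideal.isMaximal_comap_of_isIntegral_of_isMaximal' _ hint n
  have h4 := IsLocalRing.eq_maximalIdeal h3
  have h5 := comap_maximalIdeal_cpl p
  rw [← h4, Ideal.comap_comap] at h5
  rw [Ideal.comap_comap]
  have h6 : (algebraMap R' (R' ⊗[R] Cpl p)).comp (algebraMap R R') =
      (Algebra.TensorProduct.includeRight : Cpl p →ₐ[R] R' ⊗[R] Cpl p).toRingHom.comp
        (algebraMap R (Cpl p)) := by
    rw [← IsScalarTower.algebraMap_eq R R']
    exact ((Algebra.TensorProduct.includeRight : Cpl p →ₐ[R] R' ⊗[R] Cpl p).comp_algebraMap).symm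
  rw [h6]
  exact h5

end Cover

theorem isRegularHom_cpl_of_finite_free {R : Type u} [CommRing R] [IsNoetherianRing R]
    (p : Ideal R) [p.IsPrime]
    (h : ∀ (S : Type u) [CommRing S] [Algebra R S] [Module.Finite R S] [Module.Free R S]
      (q : Ideal S) [q.IsPrime] (P : Ideal (Localization.AtPrime q)) [P.IsPrime],
      IsRegularRing (EGA4.formalFibre (Localization.AtPrime q) P)) :
    CAlg.IsRegularHom R (Cpl p) := by
  refine ⟨inferInstance, fun q _ ↦ ?_⟩
  have hC : IsNoetherianRing (Cpl p) := isNoetherianRing_cpl p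
  refine ⟨isNoetherianRing_tensor R q.ResidueField (Cpl p), fun L _ _ hL ↦ ?_⟩
  let _ : Algebra R L := Algebra.compHom L (algebraMap R q.ResidueField)
  have : IsScalarTower R q.ResidueField L := .of_algebraMap_eq fun x ↦ rfl
  have hessL : Algebra.EssFiniteType R L := Algebra.EssFiniteType.comp R q.ResidueField L
  suffices h1 : IsRegularRing (L ⊗[R] Cpl p) from
    IsRegularRing.of_ringEquiv
      (Algebra.TensorProduct.cancelBaseChange R q.ResidueField L L (Cpl p)).symm.toRingEquiv
  obtain ⟨R', _, _, f, hfin, hfree, hf⟩ := FinFree.exists_finite_free_residueField q L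
  have hR' : IsNoetherianRing R' := IsNoetherianRing.of_finite R R'
  let _ : Algebra R' L := f.toRingHom.toAlgebra
  have : IsScalarTower R R' L := .of_algebraMap_eq fun x ↦ (f.commutes x).symm
  let e : L ⊗[R'] (R' ⊗[R] Cpl p) ≃+* L ⊗[R] Cpl p :=
    (Algebra.TensorProduct.cancelBaseChange R R' R' L (Cpl p)).toRingEquiv
  have hN : IsNoetherianRing (L ⊗[R'] (R' ⊗[R] Cpl p)) := by
    have : IsNoetherianRing (L ⊗[R] Cpl p) := isNoetherianRing_tensor R L (Cpl p)
    exact isNoetherianRing_of_ringEquiv _ e.symm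
  suffices h1 : IsRegularRing (L ⊗[R'] (R' ⊗[R] Cpl p)) from
    IsRegularRing.of_ringEquiv (Algebra.TensorProduct.cancelBaseChange R R' R' L (Cpl p)).toRingEquiv
  refine FinFreeGRing.isRegularRing_of_cover hN fun Q hQ ↦ ?_
  obtain ⟨n, hn, hQn⟩ := Ideal.exists_le_maximal Q hQ.ne_top
  have hnp : (n.comap (algebraMap R' (R' ⊗[R] Cpl p))).IsPrime := Ideal.IsPrime.comap _
  refine exists_cover p (n.comap (algebraMap R' (R' ⊗[R] Cpl p))) (comap_of_isMaximal p n) n rfl Q hQn L ?_
  have hst : @IsScalarTower R' (Localization.AtPrime (n.comap (algebraMap R' (R' ⊗[R] Cpl p))))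
      (Cpl (n.comap (algebraMap R' (R' ⊗[R] Cpl p)))) Algebra.toSMul Algebra.toSMul
      Algebra.toSMul := .of_algebraMap_eq fun _ => rfl
  exact isRegularRing_of_frac_localization _ _ (h R' _) L hf

/-- If the formal fibres of the local rings of all finite free `R`-algebras are regular, `R` is a
G-ring. -/
theorem isGRing_of_finite_free {R : Type u} [CommRing R] [IsNoetherianRing R]
    (h : ∀ (S : Type u) [CommRing S] [Algebra R S] [Module.Finite R S] [Module.Free R S]
      (q : Ideal S) [q.IsPrime] (P : Ideal (Localization.AtPrime q)) [P.IsPrime],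
      IsRegularRing (EGA4.formalFibre (Localization.AtPrime q) P)) :
    CAlg.IsGRing R := by
  refine ⟨inferInstance, fun p _ ↦ ?_⟩
  have : IsScalarTower R (Localization.AtPrime p) (Cpl p) := .of_algebraMap_eq fun _ => rfl
  exact isRegularHom_localization_left (R := R) (S := Cpl p) (Localization.AtPrime p)
    p.primeCompl (isRegularHom_cpl_of_finite_free p h)

end K70.FinFreeGRing2
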