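import Groth.Agent.CalgB.GRingComplete
import Groth.Agent.CalgB.RegHom8
import Groth.Agent.CalgB.GRing2
import Groth.Prelude.Def_EGA4b

/-!
# G-rings through the generic formal fibres of the local domains `(R/q)_p`

* `isRegularRing_of_bot`: a generic fibre which is geometrically regular stays regular over every field
  essentially of finite type.
* `isRegularRing_quot`: `K ⊗[R] (R_p)^` is regular when the generic formal fibre of `(R/q)_p` is
  geometrically regular, `q` the kernel of `R → K`.
* `isGRing_of_generic`: the G-ring property from generic formal fibres.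
-/

set_option autoImplicit false
universe u

open TensorProduct IsLocalRing

namespace K70.GenFibre

open Groth.Agent.CalgB Groth.Agent.CalgB.CplFiniteLocal Groth.Agent.CalgB.RegHom5
  Groth.Agent.CalgB.RegHom6 Groth.Agent.CalgB.RegHom7

theorem isRegularRing_of_bot (L : Type u) [CommRing L] [(⊥ : Ideal L).IsPrime] (T : Type u) [CommRing T]
    [Algebra L T]
    (h : CAlg.IsGeometricallyRegular (⊥ : Ideal L).ResidueField ((⊥ : Ideal L).Fiber T))
    (K : Type u) [Field K] [Algebra L K] [Algebra.EssFiniteType L K]
    (hinj : Function.Injective (algebraMap L K)) : IsRegularRing (K ⊗[L] T) := by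
  let f : (⊥ : Ideal L).ResidueField →ₐ[L] K := Ideal.ResidueField.liftₐ ⊥ (Algebra.ofId L K) bot_le (by
    intro x hx
    have hx' : algebraMap L K x ≠ 0 := fun h0 ↦ hx (hinj (by rw [h0, map_zero]))
    exact (isUnit_iff_ne_zero.mpr hx'))
  let _ : Algebra (⊥ : Ideal L).ResidueField K := f.toRingHom.toAlgebra
  have : IsScalarTower L (⊥ : Ideal L).ResidueField K := .of_algebraMap_eq fun x ↦ (f.commutes x).symm
  have : Algebra.EssFiniteType (⊥ : Ideal L).ResidueField K := Algebra.EssFiniteType.of_comp L _ _
  have h1 : IsRegularRing (K ⊗[(⊥ : Ideal L).ResidueField] ((⊥ : Ideal L).ResidueField ⊗[L] T)) :=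
    isRegularRing_tensor_of_essFiniteType K h
  exact IsRegularRing.of_ringEquiv
    (Algebra.TensorProduct.cancelBaseChange L (⊥ : Ideal L).ResidueField K K T).toRingEquiv

theorem isRegularRing_of_bot_localization {D : Type u} [CommRing D] [IsDomain D] (p' : Ideal D) [p'.IsPrime]
    (T : Type u) [CommRing T] [Algebra D T] [Algebra (Localization.AtPrime p') T]
    [IsScalarTower D (Localization.AtPrime p') T]
    (h : CAlg.IsGeometricallyRegular (⊥ : Ideal (Localization.AtPrime p')).ResidueField
      ((⊥ : Ideal (Localization.AtPrime p')).Fiber T))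
    (K : Type u) [Field K] [Algebra D K] [Algebra.EssFiniteType D K]
    (hinj : Function.Injective (algebraMap D K)) : IsRegularRing (K ⊗[D] T) := by
  have hM : ∀ m : p'.primeCompl, IsUnit (algebraMap D K m) := by
    intro m
    rw [isUnit_iff_ne_zero]
    intro h0
    have h1 : (m : D) = 0 := hinj (by rw [h0, map_zero])
    apply m.2
    rw [h1]
    exact p'.zero_mem
  let g : Localization.AtPrime p' →+* K := IsLocalization.lift hM
  let _ : Algebra (Localization.AtPrime p') K := g.toAlgebra
  have : IsScalarTower D (Localization.AtPrime p') K :=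
    .of_algebraMap_eq fun x ↦ (IsLocalization.lift_eq hM x).symm
  have : Algebra.EssFiniteType (Localization.AtPrime p') K := Algebra.EssFiniteType.of_comp D _ _
  have hinj' : Function.Injective (algebraMap (Localization.AtPrime p') K) := by
    rw [injective_iff_map_eq_zero]
    intro x hx
    obtain ⟨a, s, rfl⟩ := IsLocalization.exists_mk'_eq p'.primeCompl x
    have h1 : algebraMap D K a = 0 := by
      have h2 := congr_arg (algebraMap (Localization.AtPrime p') K)
        (IsLocalization.mk'_spec (Localization.AtPrime p') a s)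
      rw [map_mul, hx, zero_mul, ← IsScalarTower.algebraMap_apply D] at h2
      exact h2.symm
    have ha : a = 0 := hinj (by rw [h1, map_zero])
    rw [ha, IsLocalization.mk'_zero]
  have h1 : IsRegularRing (K ⊗[Localization.AtPrime p'] T) :=
    isRegularRing_of_bot (Localization.AtPrime p') T h K hinj'
  exact IsRegularRing.of_ringEquiv
      (IsLocalization.algebraTensorEquiv p'.primeCompl (Localization.AtPrime p') K T).toRingEquiv

theorem isRegularRing_quot {R : Type u} [CommRing R] [IsNoetherianRing R] (q : Ideal R) [q.IsPrime]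
    (p' : Ideal (R ⧸ q)) [p'.IsPrime]
    (h : CAlg.IsGeometricallyRegular (⊥ : Ideal (Localization.AtPrime p')).ResidueField
      (EGA4.formalFibre (Localization.AtPrime p') (⊥ : Ideal (Localization.AtPrime p'))))
    (K : Type u) [Field K] [Algebra R K] [Algebra.EssFiniteType R K]
    (hker : RingHom.ker (algebraMap R K) = q) :
    IsRegularRing (K ⊗[R] Cpl (p'.comap (algebraMap R (R ⧸ q)))) := by
  let f : R ⧸ q →+* K := Ideal.Quotient.lift q (algebraMap R K) (fun x hx ↦ by rwa [← hker] at hx)
  have hf : Function.Injective f := by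
    rw [injective_iff_map_eq_zero]
    intro x hx
    obtain ⟨y, rfl⟩ := Ideal.Quotient.mk_surjective x
    rw [Ideal.Quotient.eq_zero_iff_mem, ← hker]
    exact hx
  let _ : Algebra (R ⧸ q) K := f.toAlgebra
  have : IsScalarTower R (R ⧸ q) K := .of_algebraMap_eq fun x ↦ rfl
  have hinj : Function.Injective (algebraMap (R ⧸ q) K) := hf
  have : @IsScalarTower (R ⧸ q) (Localization.AtPrime p') (Cpl p') Algebra.toSMul Algebra.toSMul
      Algebra.toSMul := .of_algebraMap_eq fun _ => rfl
  have : Algebra.EssFiniteType (R ⧸ q) K := Algebra.EssFiniteType.of_comp R _ _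
  have h2 : IsRegularRing (K ⊗[R ⧸ q] Cpl p') :=
    isRegularRing_of_bot_localization p' (Cpl p') h K hinj
  have e := AlgEquiv.ofBijective _ (GRingComplete.psi_bijective q p')
  have h3 : IsRegularRing (K ⊗[R ⧸ q] ((R ⧸ q) ⊗[R] Cpl (p'.comap (algebraMap R (R ⧸ q))))) :=
    IsRegularRing.of_ringEquiv (Algebra.TensorProduct.congr
      (AlgEquiv.refl (R := R ⧸ q) (A₁ := K)) e).symm.toRingEquiv
  exact IsRegularRing.of_ringEquiv
    (Algebra.TensorProduct.cancelBaseChange R (R ⧸ q) (R ⧸ q) K
      (Cpl (p'.comap (algebraMap R (R ⧸ q))))).toRingEquiv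

theorem isRegularHom_cpl_of_generic {R : Type u} [CommRing R] [IsNoetherianRing R] (p : Ideal R) [p.IsPrime]
    (h : ∀ (q : Ideal R) [q.IsPrime] (p' : Ideal (R ⧸ q)) [p'.IsPrime],
      p'.comap (algebraMap R (R ⧸ q)) = p →
        CAlg.IsGeometricallyRegular (⊥ : Ideal (Localization.AtPrime p')).ResidueField
          (EGA4.formalFibre (Localization.AtPrime p') (⊥ : Ideal (Localization.AtPrime p')))) :
    CAlg.IsRegularHom R (Cpl p) := by
  rw [isRegularHom_iff]
  refine ⟨inferInstance, fun K _ _ hK ↦ ?_⟩
  have hq : (RingHom.ker (algebraMap R K)).IsPrime := RingHom.ker_isPrime _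
  by_cases hqp : RingHom.ker (algebraMap R K) ≤ p
  · set q := RingHom.ker (algebraMap R K) with hqdef
    obtain ⟨p', hp', hpp⟩ : ∃ (p' : Ideal (R ⧸ q)) (_ : p'.IsPrime),
        p'.comap (algebraMap R (R ⧸ q)) = p := by
      have h1 : (p.map (Ideal.Quotient.mk q)).IsPrime :=
        Ideal.map_isPrime_of_surjective Ideal.Quotient.mk_surjective (by rwa [Ideal.mk_ker])
      refine ⟨p.map (Ideal.Quotient.mk q), h1, ?_⟩
      have h2 := Ideal.comap_map_of_surjective (Ideal.Quotient.mk q) Ideal.Quotient.mk_surjective p
      rw [Ideal.Quotient.algebraMap_eq, h2, ← RingHom.ker_eq_comap_bot, Ideal.mk_ker, sup_eq_left]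
      exact hqp
    have h1 := isRegularRing_quot q p' (h q p' hpp) K rfl
    subst hpp
    exact h1
  · obtain ⟨s, hsq, hsp⟩ := Set.not_subset.mp hqp
    have h1 : IsUnit (algebraMap R (Cpl p) s) := by
      have : algebraMap R (Cpl p) s = algebraMap (Localization.AtPrime p) (Cpl p)
        (algebraMap R _ s) := rfl
      rw [this]
      exact (IsLocalization.map_units (Localization.AtPrime p)
        (⟨s, hsp⟩ : p.primeCompl)).map _
    have hsub : Subsingleton (K ⊗[R] Cpl p) := by
      rw [← not_nontrivial_iff_subsingleton]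
      intro hnt
      have h2 : algebraMap R K s = 0 := hsq
      have h3 : algebraMap R (K ⊗[R] Cpl p) s = 0 := by
        rw [IsScalarTower.algebraMap_apply R K, h2, map_zero]
      have h4 : IsUnit (algebraMap R (K ⊗[R] Cpl p) s) := by
        have h5 : algebraMap R (K ⊗[R] Cpl p) s = (Algebra.TensorProduct.includeRight :
          Cpl p →ₐ[R] K ⊗[R] Cpl p) (algebraMap R (Cpl p) s) :=
          (AlgHom.commutes _ s).symm
        rw [h5]
        exact h1.map _
      rw [h3] at h4
      exact not_isUnit_zero h4
    exact GRingComplete.isRegularRing_of_subsingleton _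

/-- The G-ring property follows from the geometric regularity of the generic formal fibres of the local
domains `(R/q)_p`. -/
theorem isGRing_of_generic {R : Type u} [CommRing R] [IsNoetherianRing R]
    (h : ∀ (q : Ideal R) [q.IsPrime] (p' : Ideal (R ⧸ q)) [p'.IsPrime],
        CAlg.IsGeometricallyRegular (⊥ : Ideal (Localization.AtPrime p')).ResidueField
          (EGA4.formalFibre (Localization.AtPrime p') (⊥ : Ideal (Localization.AtPrime p')))) :
    CAlg.IsGRing R := by
  refine ⟨inferInstance, fun p _ ↦ ?_⟩
  have : IsScalarTower R (Localization.AtPrime p) (Cpl p) := .of_algebraMap_eq fun _ => rfl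
  exact isRegularHom_localization_left (R := R) (S := Cpl p) (Localization.AtPrime p)
    p.primeCompl (isRegularHom_cpl_of_generic p fun q _ p' _ _ ↦ h q p')

end K70.GenFibre
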