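import Mathlib.RingTheory.Localization.BaseChange
import Mathlib.RingTheory.Localization.FractionRing

/-! # Elements invertible on the generic fibre -/

set_option autoImplicit false
universe u

open TensorProduct

namespace K70.GenUnit

theorem exists_mul_eq {R A : Type u} [CommRing R] [CommRing A] [Algebra R A] (a : A)
    (ha : IsUnit (a ⊗ₜ[R] (1 : FractionRing R) : A ⊗[R] FractionRing R)) :
    ∃ (b : A) (t : R), t ∈ nonZeroDivisors R ∧ a * b = algebraMap R A t := by
  have h1 : IsUnit (algebraMap A (A ⊗[R] FractionRing R) a) := by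
    rw [Algebra.TensorProduct.algebraMap_apply, Algebra.algebraMap_self, RingHom.id_apply]
    exact ha
  rw [IsLocalization.algebraMap_isUnit_iff
    (Algebra.algebraMapSubmonoid A (nonZeroDivisors R))] at h1
  obtain ⟨_, ⟨t, ht, rfl⟩, b, hb⟩ := h1
  exact ⟨b, t, ht, hb.symm⟩

end K70.GenUnit
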