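import Groth.Prelude.Def_CAlgX
import Groth.Agent.S2363
import Mathlib.RingTheory.Derivation.ToSquareZero
import Mathlib.RingTheory.Flat.EquationalCriterion
import Mathlib.RingTheory.LocalRing.ResidueField.Basic

/-!
# Independence in cotangent spaces through liftings

* `exists_lift_of_adic`: lifting form of adic formal smoothness along square-zero extensions of the
  residue field.
* `indep_of_flat`: elements of `m` independent modulo `m ^ 2` stay so after a flat local extension with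
  `m R' = m'`.
* `indep_of_adic`: let `A₀ → A` be a local map of local `k`-algebras with `A` adically formally smooth over
  `k`, such that every `k`-derivation of `A₀` into a module killed by `m₀` kills `m₀`; then
  `(m₀ / m₀²) ⊗ κ(A) → m / m²` is injective (stated elementwise).
-/

set_option autoImplicit false
universe u

open IsLocalRing

namespace K70.IndepLift

theorem exists_lift_of_adic {k A : Type u} [CommRing k] [CommRing A] [IsLocalRing A] [Algebra k A]
    (hfs : CAlgX.IsAdicFormallySmooth k A (maximalIdeal A)) {E : Type u} [CommRing E] [Algebra k E]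
    (π : E →ₐ[k] ResidueField A) (hπ : Function.Surjective π) (hker : RingHom.ker π ^ 2 = ⊥) :
    ∃ χ : A →ₐ[k] E, ∀ a, π (χ a) = residue A a := by
  let e := Ideal.quotientKerAlgEquivOfSurjective hπ
  obtain ⟨χ, hχ⟩ := hfs E (RingHom.ker π) hker
    (e.symm.toAlgHom.comp (IsScalarTower.toAlgHom k A (ResidueField A))) (by
      refine ⟨1, fun x hx ↦ ?_⟩
      rw [pow_one] at hx
      have h1 : (IsScalarTower.toAlgHom k A (ResidueField A)) x = 0 :=
        (residue_eq_zero_iff x).mpr hx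
      rw [AlgHom.comp_apply, h1, map_zero])
  refine ⟨χ, fun a ↦ ?_⟩
  have h2 := congrArg (fun g : A →ₐ[k] E ⧸ RingHom.ker π ↦ e (g a)) hχ
  have h3 : e (e.symm (IsScalarTower.toAlgHom k A (ResidueField A) a)) =
    IsScalarTower.toAlgHom k A (ResidueField A) a := AlgEquiv.apply_symm_apply _ _
  exact h2.trans h3

theorem indep_of_flat {A₀ R' : Type u} [CommRing A₀] [IsLocalRing A₀] [CommRing R'] [Algebra A₀ R']
    [Module.Flat A₀ R'] {d : ℕ} (f : Fin d → A₀)
    (hind : ∀ c : Fin d → A₀, ∑ i, c i * f i ∈ maximalIdeal A₀ ^ 2 → ∀ i, c i ∈ maximalIdeal A₀)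
    (c : Fin d → R')
    (hc : ∑ i, c i * algebraMap A₀ R' (f i) ∈ (maximalIdeal A₀ ^ 2).map (algebraMap A₀ R')) :
    ∀ i, c i ∈ (maximalIdeal A₀).map (algebraMap A₀ R') := by
  obtain ⟨n, r, g, hg⟩ := Submodule.mem_span_set'.mp hc
  choose g' hg' hg'' using fun j ↦ (g j).2
  have h1 : ∑ s : Fin d ⊕ Fin n, (Sum.elim f g' s) • (Sum.elim c (fun j ↦ - r j) s) = 0 := by
    rw [Fintype.sum_sum_type]
    simp only [Sum.elim_inl, Sum.elim_inr, smul_neg, Finset.sum_neg_distrib]
    rw [add_neg_eq_zero]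
    have e1 : ∑ i, f i • c i = ∑ i, c i * algebraMap A₀ R' (f i) :=
      Finset.sum_congr rfl fun i _ ↦ by rw [Algebra.smul_def, mul_comm]
    have e2 : ∑ j, g' j • r j = ∑ j, r j • (g j : R') :=
      Finset.sum_congr rfl fun j _ ↦ by rw [Algebra.smul_def, hg'' j, smul_eq_mul, mul_comm]
    rw [e1, e2, hg]
  obtain ⟨l, a, y, hy, ha⟩ := Module.Flat.isTrivialRelation_of_sum_smul_eq_zero h1
  intro i
  have h2 : c i = ∑ j, a (Sum.inl i) j • y j := hy (Sum.inl i)
  rw [h2]
  refine Ideal.sum_mem _ fun j _ ↦ ?_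
  rw [Algebra.smul_def]
  refine Ideal.mul_mem_right _ _ (Ideal.mem_map_of_mem _ ?_)
  refine hind (fun i ↦ a (Sum.inl i) j) ?_ i
  have h3 := ha j
  rw [Fintype.sum_sum_type] at h3
  simp only [Sum.elim_inl, Sum.elim_inr] at h3
  have h4 : ∑ i, a (Sum.inl i) j * f i = - ∑ s, g' s * a (Sum.inr s) j := by
    rw [← add_eq_zero_iff_eq_neg, ← h3]
    congr 1
    exact Finset.sum_congr rfl fun i _ ↦ mul_comm _ _
  rw [h4, Ideal.neg_mem_iff]
  exact Ideal.sum_mem _ fun s _ ↦ Ideal.mul_mem_right _ _ (hg' s)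

/-- The square-zero extension `R' / (m₀ R')²` of `κ(A)` attached to a flat local extension. -/
theorem exists_squareZero {k A₀ K : Type u} [CommRing k] [CommRing A₀] [IsLocalRing A₀] [Field K]
    [Algebra k A₀] [Algebra k K] [Algebra A₀ K] [IsScalarTower k A₀ K]
    {R' : Type u} [CommRing R'] [Algebra A₀ R'] [Module.Flat A₀ R'] (I : Ideal R')
    (hI : I = (maximalIdeal A₀).map (algebraMap A₀ R')) (e : (R' ⧸ I) ≃+* K)
    (he : ∀ a : A₀, e (Ideal.Quotient.mk I (algebraMap A₀ R' a)) = algebraMap A₀ K a)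
    {d : ℕ} (f : Fin d → A₀)
    (hind : ∀ c : Fin d → A₀, ∑ i, c i * f i ∈ maximalIdeal A₀ ^ 2 → ∀ i, c i ∈ maximalIdeal A₀) :
    ∃ (E : Type u) (_ : CommRing E) (_ : Algebra k E) (_ : Algebra A₀ E) (_ : IsScalarTower k A₀ E)
      (π : E →ₐ[A₀] K), Function.Surjective π ∧ RingHom.ker π ^ 2 = ⊥ ∧
      (∀ c : Fin d → E, ∑ i, c i * algebraMap A₀ E (f i) = 0 → ∀ i, π (c i) = 0) := by
  let _ : Algebra k R' := Algebra.compHom R' (algebraMap k A₀)
  have hkR : IsScalarTower k A₀ R' := .of_algebraMap_eq fun _ ↦ rfl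
  let ρ : R' →ₐ[A₀] K :=
    { toRingHom := e.toRingHom.comp (Ideal.Quotient.mk I)
      commutes' := fun x ↦ he x }
  have hρker : RingHom.ker ρ = I := by
    ext x
    rw [RingHom.mem_ker]
    change e (Ideal.Quotient.mk I x) = 0 ↔ _
    rw [map_eq_zero_iff e e.injective, Ideal.Quotient.eq_zero_iff_mem]
  have hρsurj : Function.Surjective ρ := e.surjective.comp Ideal.Quotient.mk_surjective
  let π : (R' ⧸ I ^ 2) →ₐ[A₀] K := Ideal.Quotient.liftₐ (I ^ 2) ρ (fun x hx ↦ by
    have h1 : x ∈ RingHom.ker ρ := by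
      rw [hρker]
      exact Ideal.pow_le_self two_ne_zero hx
    exact h1)
  have hπker : RingHom.ker π = I.map (Ideal.Quotient.mk (I ^ 2)) := by
    apply le_antisymm
    · intro x hx
      obtain ⟨y, rfl⟩ := Ideal.Quotient.mk_surjective x
      refine Ideal.mem_map_of_mem _ ?_
      rw [← hρker]
      exact hx
    · rw [Ideal.map_le_iff_le_comap]
      intro y hy
      rw [← hρker] at hy
      exact hy
  refine ⟨R' ⧸ I ^ 2, inferInstance, inferInstance, inferInstance, inferInstance, π, ?_, ?_, ?_⟩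
  · intro x
    obtain ⟨y, hy⟩ := hρsurj x
    exact ⟨Ideal.Quotient.mk _ y, hy⟩
  · have h1 := Ideal.map_quotient_self (I ^ 2)
    rw [Ideal.map_pow, ← hπker] at h1
    exact h1
  · intro c hc
    choose c' hc' using fun i ↦ Ideal.Quotient.mk_surjective (I := I ^ 2) (c i)
    have h2 : ∑ i, c' i * algebraMap A₀ R' (f i) ∈ I ^ 2 := by
      rw [← Ideal.Quotient.eq_zero_iff_mem, map_sum, ← hc]
      refine Finset.sum_congr rfl fun i _ ↦ ?_
      rw [map_mul, hc' i]
      rfl
    rw [hI, ← Ideal.map_pow] at h2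
    intro i
    have h3 := indep_of_flat f hind c' h2 i
    rw [← hI, ← hρker] at h3
    rw [← hc' i]
    exact h3

theorem indep_of_adic {k A₀ A : Type u} [CommRing k] [CommRing A₀] [IsLocalRing A₀]
    [IsNoetherianRing A₀] [CommRing A] [IsLocalRing A] [Algebra k A₀] [Algebra k A] [Algebra A₀ A]
    [IsScalarTower k A₀ A] [IsLocalHom (algebraMap A₀ A)]
    (hfs : CAlgX.IsAdicFormallySmooth k A (maximalIdeal A))
    (hD : ∀ (N : Type u) [AddCommGroup N] [Module A₀ N] [Module k N] [IsScalarTower k A₀ N]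
      (D : Derivation k A₀ N), (∀ a ∈ maximalIdeal A₀, ∀ n : N, a • n = 0) →
        ∀ a ∈ maximalIdeal A₀, D a = 0)
    {d : ℕ} (f : Fin d → A₀) (hf : ∀ i, f i ∈ maximalIdeal A₀)
    (hind : ∀ c : Fin d → A₀, ∑ i, c i * f i ∈ maximalIdeal A₀ ^ 2 → ∀ i, c i ∈ maximalIdeal A₀)
    (c : Fin d → A) (hc : ∑ i, c i * algebraMap A₀ A (f i) ∈ maximalIdeal A ^ 2) :
    ∀ i, c i ∈ maximalIdeal A := by
  obtain ⟨R', _, _, hN, hloc, hlh, hflat, e, he⟩ := Groth.Agent.S2363.result (A := A₀) (ResidueField A)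
  obtain ⟨E, _, _, _, hkE, π, hπ, hker, hindE⟩ := exists_squareZero (k := k) (K := ResidueField A) _ rfl
    e (fun a ↦ he a) f hind
  obtain ⟨χ, hχ⟩ := exists_lift_of_adic hfs (π.restrictScalars k) hπ hker
  -- the two maps `A₀ → E`
  let g : A₀ →ₐ[k] E := χ.comp (IsScalarTower.toAlgHom k A₀ A)
  have hg : (Ideal.Quotient.mkₐ k (RingHom.ker π)).comp g =
      IsScalarTower.toAlgHom k A₀ (E ⧸ RingHom.ker π) := by
    ext a
    change Ideal.Quotient.mk (RingHom.ker π) (χ (algebraMap A₀ A a)) =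
      Ideal.Quotient.mk (RingHom.ker π) (algebraMap A₀ E a)
    rw [Ideal.Quotient.eq, RingHom.mem_ker, map_sub, AlgHom.commutes, sub_eq_zero]
    exact hχ _
  let D : Derivation k A₀ (RingHom.ker π) :=
    derivationToSquareZeroOfLift (RingHom.ker π) hker g hg
  have hkill : ∀ a ∈ maximalIdeal A₀, ∀ n : RingHom.ker π, a • n = 0 := by
    intro a ha n
    apply Subtype.ext
    change a • (n : E) = 0
    rw [Algebra.smul_def]
    have h1 : algebraMap A₀ E a ∈ RingHom.ker π := by
      rw [RingHom.mem_ker, AlgHom.commutes]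
      exact (residue_eq_zero_iff (algebraMap A₀ A a)).mpr
        (((local_hom_TFAE (algebraMap A₀ A)).out 0 3 rfl rfl).mp inferInstance ha)
    have h2 : algebraMap A₀ E a * n ∈ RingHom.ker π ^ 2 := by
      rw [pow_two]
      exact Ideal.mul_mem_mul h1 n.2
    rw [hker] at h2
    exact h2
  have hχf : ∀ a ∈ maximalIdeal A₀, χ (algebraMap A₀ A a) = algebraMap A₀ E a := by
    intro a ha
    have h1 := congrArg Subtype.val (hD (RingHom.ker π) D hkill a ha)
    have h2 : g a - algebraMap A₀ E a = 0 := h1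
    exact sub_eq_zero.mp h2
  -- apply `χ` to the relation
  have hχm : ∀ x ∈ maximalIdeal A, χ x ∈ RingHom.ker π := by
    intro x hx
    exact (hχ x).trans ((residue_eq_zero_iff x).mpr hx)
  have hχm2 : ∀ x ∈ maximalIdeal A ^ 2, χ x = 0 := by
    intro x hx
    have h1 : χ.toRingHom x ∈ (maximalIdeal A ^ 2).map χ.toRingHom := Ideal.mem_map_of_mem _ hx
    rw [Ideal.map_pow] at h1
    have h2 : (maximalIdeal A).map χ.toRingHom ≤ RingHom.ker π := by
      rw [Ideal.map_le_iff_le_comap]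
      exact hχm
    have h3 := Ideal.pow_right_mono h2 2 h1
    rw [hker] at h3
    exact h3
  have h1 := hχm2 _ hc
  rw [map_sum] at h1
  intro i
  have h2 := hindE (fun i ↦ χ (c i)) (by
    rw [← h1]
    exact Finset.sum_congr rfl fun i _ ↦ by rw [map_mul, hχf _ (hf i)]) i
  have h3 : residue A (c i) = 0 := (hχ (c i)).symm.trans h2
  exact (residue_eq_zero_iff _).mp h3

end K70.IndepLift
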