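import Mathlib.RingTheory.MvPowerSeries.Equiv
import Mathlib.RingTheory.MvPowerSeries.Inverse
import Mathlib.RingTheory.MvPowerSeries.NoZeroDivisors
import Mathlib.RingTheory.MvPowerSeries.Rename
import Mathlib.RingTheory.PowerSeries.Basic
import Mathlib.RingTheory.AdicCompletion.Functoriality
import Mathlib.RingTheory.Filtration

/-!
# The ring `R[[x, y]] / (x y - r)`

For a complete Noetherian local ring `R` and `r` in its maximal ideal, every element of the ring
`A R r = R[[x, y]] / (x y - r)` can be written uniquely as `f(x) + y g(y)` with `f, g` power series over `R`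
(`dec_surjective`, `dec_injective`).
-/

set_option autoImplicit false
universe u

open IsLocalRing MvPowerSeries

namespace K70.Node

/-- The embedding of a one-element type into `Fin 2` at the index `i`. -/
def idx (i : Fin 2) : Unit ↪ Fin 2 := ⟨fun _ ↦ i, fun _ _ _ ↦ rfl⟩

section Series

variable {R : Type u} [CommRing R]

/-- `f(T) ↦ f(X i)`. -/
noncomputable def emb (i : Fin 2) : PowerSeries R →ₐ[R] MvPowerSeries (Fin 2) R := rename (idx i)

/-- Set the variable different from `X i` to zero. -/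
noncomputable def kill (i : Fin 2) : MvPowerSeries (Fin 2) R →ₐ[R] PowerSeries R := killCompl (idx i)

theorem kill_emb (i : Fin 2) (f : PowerSeries R) : kill i (emb i f) = f := killCompl_rename_app f

theorem emb_X (i : Fin 2) : emb i (PowerSeries.X : PowerSeries R) = X i := by
  exact rename_X (idx i) ()

theorem kill_X (i : Fin 2) : kill i (X i : MvPowerSeries (Fin 2) R) = PowerSeries.X := by
  exact killCompl_X (e := idx i) ()

theorem kill_X_of_ne {i j : Fin 2} (h : i ≠ j) : kill i (X j : MvPowerSeries (Fin 2) R) = 0 := by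
  refine killCompl_X_eq_zero (e := idx i) ?_
  rintro ⟨_, h'⟩
  exact h h'

theorem kill_C (i : Fin 2) (r : R) : kill i (C r : MvPowerSeries (Fin 2) R) = PowerSeries.C r :=
  killCompl_C (e := idx i) r

theorem emb_C (i : Fin 2) (r : R) : emb i (PowerSeries.C r) = C r := rename_C (idx i) r

theorem embDomain_idx (i : Fin 2) (n : ℕ) :
    Finsupp.embDomain (idx i) (Finsupp.single () n) = Finsupp.single i n :=
  Finsupp.embDomain_single (idx i) () n

theorem coeff_kill (i : Fin 2) (F : MvPowerSeries (Fin 2) R) (n : ℕ) :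
    PowerSeries.coeff n (kill i F) = coeff (Finsupp.single i n) F := by
  rw [← embDomain_idx]
  exact coeff_killCompl F _

theorem eq_or_eq {i j : Fin 2} (h : i ≠ j) (k : Fin 2) : k = i ∨ k = j := by
  omega

theorem dvd_of_kill_eq_zero {i j : Fin 2} (h : i ≠ j) {F : MvPowerSeries (Fin 2) R} (hF : kill i F = 0) :
    X j ∣ F := by
  rw [X_dvd_iff]
  intro m hm
  have h1 : m = Finsupp.single i (m i) := by
    ext k
    rcases eq_or_eq h k with rfl | rfl
    · simp
    · rw [hm, Finsupp.single_eq_of_ne (Ne.symm h)]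
  rw [h1, ← coeff_kill, hF, map_zero]

theorem exists_decomp {i j : Fin 2} (h : i ≠ j) (F : MvPowerSeries (Fin 2) R) :
    ∃ (f g : PowerSeries R) (H : MvPowerSeries (Fin 2) R),
      F = emb i f + X j * emb j g + X 0 * X 1 * H := by
  obtain ⟨G, hG⟩ := dvd_of_kill_eq_zero (F := F - emb i (kill i F)) h (by
    rw [map_sub, kill_emb, sub_self])
  obtain ⟨H, hH⟩ := dvd_of_kill_eq_zero (F := G - emb j (kill j G)) h.symm (by
    rw [map_sub, kill_emb, sub_self])
  refine ⟨kill i F, kill j G, H, ?_⟩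
  have h1 : (X 0 * X 1 : MvPowerSeries (Fin 2) R) = X i * X j := by
    rcases eq_or_eq h 0 with h0 | h0 <;> rcases eq_or_eq h 1 with h1 | h1
    · omega
    · rw [h0, h1]
    · rw [h0, h1, mul_comm]
    · omega
  rw [h1]
  linear_combination hG + X j * hH

theorem coeff_emb_eq_zero {i j : Fin 2} (h : i ≠ j) (f : PowerSeries R) (m : Fin 2 →₀ ℕ) (hm : m j ≠ 0) :
    coeff m (emb i f) = 0 := by
  refine coeff_rename_eq_zero (idx i) f ?_
  rintro ⟨n, rfl⟩
  apply hm
  rw [Finsupp.mapDomain_of_notMem_range]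
  rintro ⟨_, h'⟩
  exact h h'

end Series

variable {R : Type u} [CommRing R]

theorem coeff_X_mul (i : Fin 2) (m : Fin 2 →₀ ℕ) (G : MvPowerSeries (Fin 2) R) :
    coeff (Finsupp.single i 1 + m) (X i * G) = coeff m G := by
  have := coeff_add_monomial_mul (Finsupp.single i 1) m G (1 : R)
  rw [one_mul] at this
  exact this

theorem mem_of_forall_coeff {r : R} {f g : PowerSeries R} {G : MvPowerSeries (Fin 2) R}
    (hG : emb 0 f + X 1 * emb 1 g = (X 0 * X 1 - C r) * G) (m : Fin 2 →₀ ℕ) :
    coeff m G = r * coeff (Finsupp.single 0 1 + (Finsupp.single 1 1 + m)) G := by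
  have h1 := congrArg (coeff (Finsupp.single 0 1 + (Finsupp.single 1 1 + m))) hG
  rw [map_add, sub_mul, map_sub, mul_assoc, coeff_X_mul, coeff_X_mul, coeff_C_mul] at h1
  have h2 : coeff (Finsupp.single 0 1 + (Finsupp.single 1 1 + m)) (emb 0 f) = 0 :=
    coeff_emb_eq_zero (i := 0) (j := 1) (by decide) f _ (by simp)
  have h3 : coeff (Finsupp.single 0 1 + (Finsupp.single 1 1 + m)) (X 1 * emb 1 g) = 0 := by
    rw [add_left_comm, coeff_X_mul]
    exact coeff_emb_eq_zero (i := 1) (j := 0) (by decide) g _ (by simp)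
  rw [h2, h3, add_zero] at h1
  exact (sub_eq_zero.mp h1.symm)

theorem eq_zero_of_eq_mul [IsLocalRing R] [IsNoetherianRing R] {r : R} (hr : r ∈ maximalIdeal R)
    {f g : PowerSeries R} {G : MvPowerSeries (Fin 2) R}
    (hG : emb 0 f + X 1 * emb 1 g = (X 0 * X 1 - C r) * G) : f = 0 ∧ g = 0 := by
  have h1 : ∀ (n : ℕ) (m : Fin 2 →₀ ℕ), coeff m G ∈ Ideal.span {r} ^ n := by
    intro n
    induction n with
    | zero => intro m; simp
    | succ n ih =>
      intro m
      rw [mem_of_forall_coeff hG m, pow_succ']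
      exact Ideal.mul_mem_mul (Ideal.mem_span_singleton_self r) (ih _)
  have h2 : G = 0 := by
    ext m
    have h3 : coeff m G ∈ ⨅ n : ℕ, Ideal.span {r} ^ n := by
      rw [Ideal.mem_iInf]
      exact fun n ↦ h1 n m
    rw [Ideal.iInf_pow_eq_bot_of_isLocalRing _ (by
      intro h4
      have : Ideal.span {r} ≤ maximalIdeal R := (Ideal.span_singleton_le_iff_mem _).mpr hr
      rw [h4, top_le_iff] at this
      exact Ideal.IsPrime.ne_top inferInstance this)] at h3
    rw [map_zero]
    exact h3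
  rw [h2, mul_zero] at hG
  have h3 := congrArg (kill 0) hG
  rw [map_add, kill_emb, map_mul, kill_X_of_ne (by decide), zero_mul, add_zero, map_zero] at h3
  rw [h3, map_zero, zero_add] at hG
  refine ⟨h3, ?_⟩
  have h4 := congrArg (kill 1) hG
  rw [map_mul, kill_X, kill_emb, map_zero] at h4
  ext n
  have h5 := congrArg (PowerSeries.coeff (n + 1)) h4
  rw [PowerSeries.coeff_succ_X_mul] at h5
  rw [h5, map_zero, map_zero]

/-- The ring `R[[x, y]] / (x y - r)`. -/
abbrev A (r : R) : Type u :=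
  MvPowerSeries (Fin 2) R ⧸ Ideal.span {(X 0 * X 1 - C r : MvPowerSeries (Fin 2) R)}

instance [IsNoetherianRing R] (r : R) : IsNoetherianRing (A r) :=
  isNoetherianRing_of_surjective _ _ (Ideal.Quotient.mk _) Ideal.Quotient.mk_surjective

variable (r : R)

theorem smul_eq (b : R) (c : A r) : b • c = algebraMap R (A r) b * c := Algebra.smul_def b c

/-- The classes `z 0 = x`, `z 1 = y`. -/
noncomputable def z (i : Fin 2) : A r := Ideal.Quotient.mk _ (X i)

/-- Substitution of `z i` in a power series. -/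
noncomputable def ev (i : Fin 2) : PowerSeries R →ₐ[R] A r := (Ideal.Quotient.mkₐ R _).comp (emb i)

theorem ev_X (i : Fin 2) : ev r i PowerSeries.X = z r i := by
  change Ideal.Quotient.mk _ (emb i PowerSeries.X) = _
  rw [emb_X]
  rfl

theorem ev_C (i : Fin 2) (a : R) : ev r i (PowerSeries.C a) = algebraMap R (A r) a :=
  (ev r i).commutes a

theorem mk_C (a : R) : (Ideal.Quotient.mk _ (C a) : A r) = algebraMap R (A r) a := rfl

theorem z_zero_mul_z_one : z r 0 * z r 1 = algebraMap R (A r) r := by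
  rw [← mk_C]
  change Ideal.Quotient.mk _ (X 0 * X 1) = _
  rw [Ideal.Quotient.eq]
  exact Ideal.mem_span_singleton_self _

theorem z_mul_z {i j : Fin 2} (h : i ≠ j) : z r i * z r j = algebraMap R (A r) r := by
  rcases eq_or_eq h 0 with h0 | h0 <;> rcases eq_or_eq h 1 with h1 | h1
  · omega
  · rw [← h0, ← h1, z_zero_mul_z_one]
  · rw [← h0, ← h1, mul_comm, z_zero_mul_z_one]
  · omega

theorem exists_decomp_mod {i j : Fin 2} (h : i ≠ j) (a : A r) : ∃ (f g : PowerSeries R) (b : A r),
    a = ev r i f + z r j * ev r j g + algebraMap R (A r) r * b := by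
  obtain ⟨F, rfl⟩ := Ideal.Quotient.mk_surjective a
  obtain ⟨f, g, H, hF⟩ := exists_decomp h F
  refine ⟨f, g, Ideal.Quotient.mk _ H, ?_⟩
  rw [← z_zero_mul_z_one, hF]
  rfl

/-- The map `h ↦ ∑_{k ≥ 0} h_k x ^ k + ∑_{j > 0} h_{-j} y ^ j`. -/
noncomputable def dec : (ℤ → R) →ₗ[R] A r where
  toFun h := ev r 0 (PowerSeries.mk fun n ↦ h (n : ℤ)) +
    z r 1 * ev r 1 (PowerSeries.mk fun n ↦ h (-(n + 1 : ℤ)))
  map_add' h h' := by
    have e1 : (PowerSeries.mk fun n ↦ (h + h') (n : ℤ)) =
      PowerSeries.mk (fun n ↦ h (n : ℤ)) + PowerSeries.mk (fun n ↦ h' (n : ℤ)) := by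
      ext n; simp
    have e2 : (PowerSeries.mk fun n ↦ (h + h') (-(n + 1 : ℤ))) =
      PowerSeries.mk (fun n ↦ h (-(n + 1 : ℤ))) + PowerSeries.mk (fun n ↦ h' (-(n + 1 : ℤ))) := by
      ext n; simp
    rw [e1, e2, map_add, map_add]
    ring
  map_smul' c h := by
    have e1 : (PowerSeries.mk fun n ↦ (c • h) (n : ℤ)) =
      c • PowerSeries.mk (fun n ↦ h (n : ℤ)) := by
      ext n; simp
    have e2 : (PowerSeries.mk fun n ↦ (c • h) (-(n + 1 : ℤ))) =
      c • PowerSeries.mk (fun n ↦ h (-(n + 1 : ℤ))) := by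
      ext n; simp
    rw [e1, e2, map_smul, map_smul, mul_smul_comm, ← smul_add]
    rfl

theorem dec_apply (h : ℤ → R) : dec r h = ev r 0 (PowerSeries.mk fun n ↦ h (n : ℤ)) +
    z r 1 * ev r 1 (PowerSeries.mk fun n ↦ h (-(n + 1 : ℤ))) := rfl

theorem mem_smul_top_iff {ι : Type*} (J : Ideal R) (hJ : J.FG) (h : ι → R) :
    h ∈ J • (⊤ : Submodule R (ι → R)) ↔ ∀ k, h k ∈ J := by
  constructor
  · intro hh k
    refine Submodule.smul_induction_on hh (fun a ha x _ ↦ ?_) (fun x y hx hy ↦ ?_)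
    · exact J.mul_mem_right _ ha
    · exact J.add_mem hx hy
  · intro hh
    obtain ⟨s, rfl⟩ := hJ
    have h1 : ∀ k, ∃ c : s → R, ∑ a, c a * (a : R) = h k := fun k ↦ by
      obtain ⟨c, hc⟩ := (Submodule.mem_span_finset' (s := s)).mp (hh k)
      exact ⟨c, hc⟩
    choose c hc using h1
    have h2 : h = ∑ a : s, (a : R) • (fun k ↦ c k a) := by
      ext k
      rw [← hc k, Finset.sum_apply]
      exact Finset.sum_congr rfl fun a _ ↦ mul_comm _ _
    rw [h2]
    exact Submodule.sum_mem _ fun a _ ↦ Submodule.smul_mem_smul (Ideal.subset_span a.2) trivial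

theorem isPrecomplete_pi (ι : Type*) (I : Ideal R) (hI : I.FG) [IsPrecomplete I R] :
    IsPrecomplete I (ι → R) := by
  refine ⟨fun f hf ↦ ?_⟩
  have hfg : ∀ n, (I ^ n).FG := fun n ↦ Ideal.FG.pow hI
  have h1 : ∀ k, ∃ L : R, ∀ n, f n k ≡ L [SMOD (I ^ n • ⊤ : Submodule R R)] := by
    intro k
    refine IsPrecomplete.prec inferInstance (f := fun n ↦ f n k) fun {m n} hmn ↦ ?_
    have h2 := hf hmn
    rw [SModEq.sub_mem, mem_smul_top_iff _ (hfg m)] at h2
    rw [SModEq.sub_mem, smul_eq_mul, Ideal.mul_top]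
    exact h2 k
  choose L hL using h1
  refine ⟨L, fun n ↦ ?_⟩
  rw [SModEq.sub_mem, mem_smul_top_iff _ (hfg n)]
  intro k
  have h3 := hL k n
  rw [SModEq.sub_mem, smul_eq_mul, Ideal.mul_top] at h3
  exact h3

section Local

variable [IsLocalRing R] [IsNoetherianRing R] {r} (hr : r ∈ maximalIdeal R)

include hr

omit [IsNoetherianRing R] in
theorem nontrivial : Nontrivial (A r) := by
  rw [Ideal.Quotient.nontrivial_iff]
  intro h
  have h1 : Ideal.span {(X 0 * X 1 - C r : MvPowerSeries (Fin 2) R)} ≤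
      Ideal.comap constantCoeff (maximalIdeal R) := by
    rw [Ideal.span_singleton_le_iff_mem, Ideal.mem_comap, map_sub, map_mul]
    simpa using hr
  rw [h, top_le_iff, Ideal.comap_eq_top_iff] at h1
  exact Ideal.IsPrime.ne_top inferInstance h1

omit [IsNoetherianRing R] in
theorem isLocalRing : IsLocalRing (A r) := by
  have := nontrivial hr
  exact IsLocalRing.of_surjective' (Ideal.Quotient.mk _) Ideal.Quotient.mk_surjective

theorem dec_injective : Function.Injective (dec r) := by
  rw [injective_iff_map_eq_zero]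
  intro h hh
  have h1 : (Ideal.Quotient.mk _ (emb 0 (PowerSeries.mk fun n ↦ h (n : ℤ)) +
    X 1 * emb 1 (PowerSeries.mk fun n ↦ h (-(n + 1 : ℤ)))) : A r) = 0 := hh
  rw [Ideal.Quotient.eq_zero_iff_mem] at h1
  obtain ⟨G, hG⟩ := Ideal.mem_span_singleton'.mp h1
  rw [mul_comm] at hG
  obtain ⟨h2, h3⟩ := eq_zero_of_eq_mul hr hG.symm
  ext k
  rcases le_or_gt 0 k with hk | hk
  · obtain ⟨n, rfl⟩ := Int.eq_ofNat_of_zero_le hk
    have := congrArg (PowerSeries.coeff n) h2
    simpa using this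
  · obtain ⟨n, rfl⟩ : ∃ n : ℕ, k = -(n + 1 : ℤ) := ⟨(-k - 1).toNat, by omega⟩
    have := congrArg (PowerSeries.coeff n) h3
    simpa using this

theorem algebraMap_mem (a : R) (ha : a ∈ maximalIdeal R) :
    haveI := isLocalRing hr
    algebraMap R (A r) a ∈ maximalIdeal (A r) := by
  have := isLocalRing hr
  intro h1
  have h2 : IsUnit (C a : MvPowerSeries (Fin 2) R) := by
    have hloc : IsLocalHom (Ideal.Quotient.mk (Ideal.span {(X 0 * X 1 - C r :
        MvPowerSeries (Fin 2) R)})) := IsLocalHom.of_surjective _ Ideal.Quotient.mk_surjective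
    exact hloc.map_nonunit _ h1
  have h3 := h2.map (constantCoeff (σ := Fin 2) (R := R))
  rw [constantCoeff_C] at h3
  exact ha h3

theorem z_mem (i : Fin 2) :
    haveI := isLocalRing hr
    z r i ∈ maximalIdeal (A r) := by
  have := isLocalRing hr
  intro h1
  have h2 : IsUnit (X i : MvPowerSeries (Fin 2) R) := by
    have hloc : IsLocalHom (Ideal.Quotient.mk (Ideal.span {(X 0 * X 1 - C r :
        MvPowerSeries (Fin 2) R)})) := IsLocalHom.of_surjective _ Ideal.Quotient.mk_surjective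
    exact hloc.map_nonunit _ h1
  have h3 := h2.map (constantCoeff (σ := Fin 2) (R := R))
  rw [constantCoeff_X] at h3
  exact not_isUnit_zero h3

theorem isHausdorff : IsHausdorff (maximalIdeal R) (A r) := by
  have hloc := isLocalRing hr
  refine ⟨fun a ha ↦ ?_⟩
  have h1 : a ∈ ⨅ n : ℕ, (maximalIdeal (A r)) ^ n := by
    rw [Ideal.mem_iInf]
    intro n
    have h2 := ha n
    rw [SModEq.zero] at h2
    refine Submodule.smul_induction_on h2 (fun b hb c _ ↦ ?_) (fun b c hb hc ↦ Ideal.add_mem _ hb hc)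
    rw [smul_eq]
    refine Ideal.mul_mem_right _ _ ?_
    have h3 : (maximalIdeal R ^ n).map (algebraMap R (A r)) ≤ maximalIdeal (A r) ^ n := by
      rw [Ideal.map_pow]
      refine Ideal.pow_right_mono ?_ n
      rw [Ideal.map_le_iff_le_comap]
      exact fun x hx ↦ algebraMap_mem hr x hx
    exact h3 (Ideal.mem_map_of_mem _ hb)
  rw [Ideal.iInf_pow_eq_bot_of_isLocalRing _ (Ideal.IsPrime.ne_top inferInstance)] at h1
  exact h1

theorem dec_surjective [IsAdicComplete (maximalIdeal R) R] : Function.Surjective (dec r) := by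
  have h1 : IsPrecomplete (maximalIdeal R) (ℤ → R) :=
    isPrecomplete_pi _ _ (IsNoetherian.noetherian _)
  have h2 := isHausdorff hr
  apply surjective_of_mkQ_comp_surjective (I := maximalIdeal R)
  intro b
  obtain ⟨a, rfl⟩ := Submodule.mkQ_surjective _ b
  obtain ⟨f, g, c, hc⟩ := exists_decomp_mod r (i := 0) (j := 1) (by decide) a
  refine ⟨fun k ↦ if 0 ≤ k then PowerSeries.coeff k.toNat f else
    PowerSeries.coeff (-k - 1).toNat g, ?_⟩
  rw [LinearMap.comp_apply, Submodule.mkQ_apply, Submodule.mkQ_apply, Submodule.Quotient.eq,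
    dec_apply]
  have e1 : (PowerSeries.mk fun n : ℕ ↦ if 0 ≤ (n : ℤ) then PowerSeries.coeff (n : ℤ).toNat f else
    PowerSeries.coeff (-(n : ℤ) - 1).toNat g) = f := by
    ext n; simp
  have e2 : (PowerSeries.mk fun n : ℕ ↦ if 0 ≤ (-(n + 1 : ℤ)) then
    PowerSeries.coeff (-(n + 1 : ℤ)).toNat f else
    PowerSeries.coeff (-(-(n + 1 : ℤ)) - 1).toNat g) = g := by
    ext n
    rw [PowerSeries.coeff_mk, if_neg (by omega)]
    congr 2
    omega
  have h3 : ev r 0 f + z r 1 * ev r 1 g - a = - (r • c) := by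
    rw [smul_eq]
    linear_combination -hc
  rw [e1, e2, h3]
  exact Submodule.neg_mem _ (Submodule.smul_mem_smul hr trivial)

end Local

end K70.Node
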