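import Groth.Agent.CAlg.K70.NodeVal
import Groth.Agent.S4433
import Groth.Agent.S0549
import Mathlib.RingTheory.AdicCompletion.Completeness
import Mathlib.RingTheory.AdicCompletion.LocalRing

/-!
# `R[[x, y]] / (x y - r)` is a domain for a complete Noetherian local domain `R`, `r ≠ 0`

* `mapA φ r : A r → A (φ r)`, injective for local injective `φ`.
* `isDomain`: reduction to a complete discrete valuation ring dominating `R`.
* `dvd_comp_mul_of_not_dvd`: the analogue of `dvd_comp_mul` for primes not dividing `r`.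
-/

set_option autoImplicit false
universe u

open IsLocalRing MvPowerSeries

namespace K70.Node

section Map

variable {R V : Type u} [CommRing R] [CommRing V] (φ : R →+* V) (r : R)

/-- The map `R[[x, y]] / (x y - r) → V[[x, y]] / (x y - φ r)`. -/
noncomputable def mapA : A r →+* A (φ r) :=
  Ideal.quotientMap _ (MvPowerSeries.map φ) (by
    rw [Ideal.span_singleton_le_iff_mem, Ideal.mem_comap]
    have : MvPowerSeries.map φ (X 0 * X 1 - C r : MvPowerSeries (Fin 2) R) = X 0 * X 1 - C (φ r) := by
      simp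
    rw [this]
    exact Ideal.mem_span_singleton_self _)

theorem mapA_mk (F : MvPowerSeries (Fin 2) R) :
    mapA φ r (Ideal.Quotient.mk _ F) = Ideal.Quotient.mk _ (MvPowerSeries.map φ F) := rfl

theorem mapA_ev (i : Fin 2) (f : PowerSeries R) :
    mapA φ r (ev r i f) = ev (φ r) i (PowerSeries.map φ f) := by
  change mapA φ r (Ideal.Quotient.mk _ (emb i f)) = Ideal.Quotient.mk _ (emb i (PowerSeries.map φ f))
  rw [mapA_mk]
  congr 1
  exact (rename_map (idx i) φ f).symm

theorem mapA_z (i : Fin 2) : mapA φ r (z r i) = z (φ r) i := by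
  rw [← ev_X, mapA_ev, PowerSeries.map_X, ev_X]

theorem mapA_algebraMap (a : R) : mapA φ r (algebraMap R (A r) a) = algebraMap V (A (φ r)) (φ a) := by
  rw [← ev_C r 0, mapA_ev, PowerSeries.map_C, ev_C]

theorem mapA_dec (h : ℤ → R) : mapA φ r (dec r h) = dec (φ r) (fun k ↦ φ (h k)) := by
  rw [dec_apply, dec_apply, map_add, map_mul, mapA_ev, mapA_ev, mapA_z]
  rfl

theorem mapA_injective [IsLocalRing R] [IsNoetherianRing R] [IsAdicComplete (maximalIdeal R) R]
    [IsLocalRing V] [IsNoetherianRing V] (hr : r ∈ maximalIdeal R) (hφ : Function.Injective φ)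
    (hφr : φ r ∈ maximalIdeal V) : Function.Injective (mapA φ r) := by
  rw [injective_iff_map_eq_zero]
  intro a ha
  obtain ⟨h, rfl⟩ := dec_surjective hr a
  rw [mapA_dec] at ha
  have h1 := dec_injective hφr (ha.trans (map_zero _).symm)
  have h2 : h = 0 := by
    ext k
    exact hφ ((congrFun h1 k).trans (map_zero φ).symm)
  rw [h2, map_zero]

end Map

/-- A Noetherian local domain with a nonzero nonunit is dominated by a complete discrete valuation
ring. -/
theorem exists_complete_dvr {D : Type u} [CommRing D] [IsDomain D] [IsLocalRing D] [IsNoetherianRing D]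
    (hD : ¬ IsField D) : ∃ (V : Type u) (_ : CommRing V) (_ : IsDomain V) (_ : IsLocalRing V)
      (_ : IsNoetherianRing V) (_ : IsAdicComplete (maximalIdeal V) V) (π : V) (φ : D →+* V),
      Function.Injective φ ∧ (∀ a ∈ maximalIdeal D, φ a ∈ maximalIdeal V) ∧ Prime π ∧
        maximalIdeal V = Ideal.span {π} := by
  obtain ⟨V₀, hV₀, hmem, hlt⟩ := Groth.Agent.S4433.result D hD (FractionRing D) (FractionRing D)
    (IntermediateField.fg_top _ _)
  let W := AdicCompletion (maximalIdeal V₀) V₀
  obtain ⟨hdom, hdvr⟩ := (Groth.Agent.S0549.result V₀).mp ⟨inferInstance, hV₀⟩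
  have hN : IsNoetherianRing W := Groth.Agent.S0543.result V₀ _
  have hc : IsAdicComplete (maximalIdeal W) W := by
    rw [AdicCompletion.maximalIdeal_eq_map, IsAdicComplete.map_algebraMap_iff]
    exact AdicCompletion.isAdicComplete (IsNoetherian.noetherian _)
  obtain ⟨π, hπ⟩ := IsDiscreteValuationRing.exists_irreducible W
  let ψ : D →+* V₀ := (algebraMap D (FractionRing D)).codRestrict V₀.toSubring hmem
  have hψ : Function.Injective ψ := fun a b hab ↦
    IsFractionRing.injective D (FractionRing D) (congrArg Subtype.val hab)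
  have hψm : ∀ a ∈ maximalIdeal D, ψ a ∈ maximalIdeal V₀ := by
    intro a ha
    intro hu
    exact (hlt a ha).ne ((V₀.valuation_eq_one_iff _).mp hu)
  refine ⟨W, inferInstance, hdom, inferInstance, hN, hc, π, (algebraMap V₀ W).comp ψ, ?_, ?_, hπ.prime,
    ?_⟩
  · exact (AdicCompletion.of_injective (maximalIdeal V₀) V₀).comp hψ
  · intro a ha
    rw [AdicCompletion.maximalIdeal_eq_map]
    exact Ideal.mem_map_of_mem _ (hψm a ha)
  · exact (IsDiscreteValuationRing.irreducible_iff_uniformizer π).mp hπ

theorem isDomain {D : Type u} [CommRing D] [IsDomain D] [IsLocalRing D] [IsNoetherianRing D]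
    [IsAdicComplete (maximalIdeal D) D] {r : D} (hr : r ∈ maximalIdeal D) (hr0 : r ≠ 0) :
    IsDomain (A r) := by
  have hD : ¬ IsField D := by
    intro h
    obtain ⟨b, hb⟩ := h.mul_inv_cancel hr0
    exact hr (IsUnit.of_mul_eq_one b hb)
  obtain ⟨V, _, _, _, _, _, π, φ, hφ, hφm, hπ, hmax⟩ := exists_complete_dvr hD
  have h1 : IsDomain (A (φ r)) := isDomain_of_prime (hφm r hr) hπ (by
    rw [← Ideal.mem_span_singleton, ← hmax]
    exact hφm r hr) (fun h ↦ hr0 (hφ (h.trans (map_zero φ).symm)))
  exact (mapA_injective φ r hr hφ (hφm r hr)).isDomain (mapA φ r)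

end K70.Node
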