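import Groth.Agent.CAlg.K70.NodeMap
import Mathlib.RingTheory.UniqueFactorizationDomain.Multiplicative
import Mathlib.RingTheory.UniqueFactorizationDomain.GCDMonoid

/-!
# Elements of `R[[x, y]] / (x y - r)` which are units on the generic fibre

`exists_unit_mul`: for `R` a complete Noetherian local factorial domain, `0 ≠ r` in the maximal ideal, an
element `a` of `R[[x, y]] / (x y - r)` with `a b = t`, `0 ≠ t ∈ R`, is of the form `s x^n y^m u` with
`s ∈ R`, `m n = 0`, `u` a unit.
-/

set_option autoImplicit false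
universe u

open IsLocalRing MvPowerSeries

namespace K70.Node

theorem exists_pow_dvd_and_pow_dvd {M : Type*} [CommRing M] [IsDomain M] {p : M} (hp : Prime p) {n : ℕ}
    {a b : M} (h : p ^ n ∣ a * b) : ∃ i j, i + j = n ∧ p ^ i ∣ a ∧ p ^ j ∣ b := by
  induction n generalizing a b with
  | zero => exact ⟨0, 0, rfl, by simp, by simp⟩
  | succ n ih =>
    rcases hp.dvd_or_dvd ((dvd_pow_self p (Nat.succ_ne_zero n)).trans h) with ⟨c, rfl⟩ | ⟨c, rfl⟩
    · rw [pow_succ', mul_assoc, mul_dvd_mul_iff_left hp.ne_zero] at h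
      obtain ⟨i, j, hij, hi, hj⟩ := ih h
      exact ⟨i + 1, j, by omega, by rw [pow_succ']; exact mul_dvd_mul_left p hi, hj⟩
    · rw [pow_succ', mul_left_comm, mul_dvd_mul_iff_left hp.ne_zero] at h
      obtain ⟨i, j, hij, hi, hj⟩ := ih h
      exact ⟨i, j + 1, by omega, hi, by rw [pow_succ']; exact mul_dvd_mul_left p hj⟩

theorem isAdicComplete_quotient {R : Type u} [CommRing R] [IsLocalRing R] [IsNoetherianRing R]
    [IsAdicComplete (maximalIdeal R) R] (I : Ideal R) [IsLocalRing (R ⧸ I)] :
    IsAdicComplete (maximalIdeal (R ⧸ I)) (R ⧸ I) := by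
  have h1 : IsAdicComplete (maximalIdeal R) (R ⧸ I) := by
    rw [← AdicCompletion.of_bijective_iff]
    constructor
    · exact AdicCompletion.of_injective_iff.mpr inferInstance
    · have hs : Function.Surjective (AdicCompletion.map (maximalIdeal R)
          (Algebra.linearMap R (R ⧸ I))) :=
        AdicCompletion.map_surjective _ Ideal.Quotient.mk_surjective
      intro y
      obtain ⟨x, rfl⟩ := hs y
      obtain ⟨z, rfl⟩ := (AdicCompletion.of_bijective (maximalIdeal R) R).2 x
      refine ⟨Algebra.linearMap R (R ⧸ I) z, ?_⟩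
      rw [AdicCompletion.map_of]
  have h2 : (maximalIdeal R).map (algebraMap R (R ⧸ I)) = maximalIdeal (R ⧸ I) :=
    IsLocalRing.map_maximalIdeal_of_surjective _ Ideal.Quotient.mk_surjective
  rw [← h2, IsAdicComplete.map_algebraMap_iff]
  exact h1

section

variable {R : Type u} [CommRing R] [IsLocalRing R] [IsNoetherianRing R]
  [IsAdicComplete (maximalIdeal R) R] [IsDomain R] {r : R} (hr : r ∈ maximalIdeal R)

include hr

/-- A prime element `π` of `R` not dividing `r` stays prime in `A r`. -/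
theorem prime_algebraMap {π : R} (hπ : Prime π) (hπr : ¬ π ∣ r) : Prime (algebraMap R (A r) π) := by
  have hdom : IsDomain (R ⧸ Ideal.span {π}) := by
    rw [Ideal.Quotient.isDomain_iff_prime, Ideal.span_singleton_prime hπ.ne_zero]
    exact hπ
  have hloc : IsLocalRing (R ⧸ Ideal.span {π}) :=
    IsLocalRing.of_surjective' (Ideal.Quotient.mk _) Ideal.Quotient.mk_surjective
  have hlh : IsLocalHom (Ideal.Quotient.mk (Ideal.span {π})) :=
    IsLocalHom.of_surjective _ Ideal.Quotient.mk_surjective
  have hN : IsNoetherianRing (R ⧸ Ideal.span {π}) :=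
    isNoetherianRing_of_surjective _ _ (Ideal.Quotient.mk _) Ideal.Quotient.mk_surjective
  have hc := isAdicComplete_quotient (Ideal.span {π})
  set q := Ideal.Quotient.mk (Ideal.span {π}) with hq
  have hrq : q r ∈ maximalIdeal (R ⧸ Ideal.span {π}) := fun h ↦ hr (isUnit_of_map_unit q r h)
  have hrq0 : q r ≠ 0 := fun h ↦ hπr (by
    rw [← Ideal.mem_span_singleton]
    exact Ideal.Quotient.eq_zero_iff_mem.mp h)
  have hA : IsDomain (A (q r)) := isDomain hrq hrq0
  have hker : ∀ a : A r, mapA q r a = 0 ↔ algebraMap R (A r) π ∣ a := by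
    intro a
    obtain ⟨h, rfl⟩ := dec_surjective hr a
    rw [dvd_dec_iff hr, mapA_dec]
    constructor
    · intro h1 k
      have h2 := congrFun (dec_injective hrq (h1.trans (map_zero _).symm)) k
      rw [← Ideal.mem_span_singleton]
      exact Ideal.Quotient.eq_zero_iff_mem.mp h2
    · intro h1
      have h2 : (fun k ↦ q (h k)) = 0 := by
        ext k
        exact Ideal.Quotient.eq_zero_iff_mem.mpr (Ideal.mem_span_singleton.mpr (h1 k))
      rw [h2, map_zero]
  refine ⟨?_, ?_, ?_⟩
  · intro h0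
    have hnt := nontrivial hr
    have h1 : (1 : A r) = 0 := isSMulRegular_of_isSMulRegular hr (s := π)
      (fun x hx ↦ (mul_eq_zero.mp hx).resolve_left hπ.ne_zero) (by rw [h0, zero_mul])
    exact one_ne_zero h1
  · intro hu
    have h1 : algebraMap R (A r) π ∣ 1 := hu.dvd
    rw [← hker, map_one] at h1
    exact one_ne_zero h1
  · intro a b hab
    rw [← hker, map_mul, mul_eq_zero, hker, hker] at hab
    exact hab

variable [UniqueFactorizationMonoid R] (hr0 : r ≠ 0)

include hr0

theorem dvd_comp_mul_of_ne_zero {s : R} (hs : s ≠ 0) {h : ℤ → R} {b : A r}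
    (hab : algebraMap R (A r) s ∣ dec r h * b) (k : ℤ) :
    algebraMap R (A r) s ∣ dec r (Pi.single k (h k)) * b := by
  have hA : IsDomain (A r) := isDomain hr hr0
  induction s using UniqueFactorizationMonoid.induction_on_coprime with
  | h0 => exact absurd rfl hs
  | h1 hx => exact (hx.map _).dvd
  | hpr n hp =>
    rename_i p
    by_cases hpr : p ∣ r
    · exact dvd_comp_mul hr hp hpr hab k
    · have hp' := prime_algebraMap hr hp hpr
      rw [map_pow] at hab ⊢
      obtain ⟨i, j, rfl, hi, hj⟩ := exists_pow_dvd_and_pow_dvd hp' hab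
      rw [pow_add]
      refine mul_dvd_mul ?_ hj
      rw [← map_pow, dvd_dec_iff hr] at hi
      rw [dec_single, ← map_pow]
      exact (map_dvd _ (hi k)).mul_right _
  | hcp hxy ihx ihy =>
    have h1 := ihx (left_ne_zero_of_mul hs) ((map_dvd _ (dvd_mul_right _ _)).trans hab)
    have h2 := ihy (right_ne_zero_of_mul hs) ((map_dvd _ (dvd_mul_left _ _)).trans hab)
    obtain ⟨g, hg⟩ := dec_surjective hr (dec r (Pi.single k (h k)) * b)
    rw [← hg, dvd_dec_iff hr] at h1 h2 ⊢
    exact fun j ↦ hxy.mul_dvd (h1 j) (h2 j)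

end

section Closed

variable {R : Type u} [CommRing R] {r : R}

theorem ev_mul_mem (i : Fin 2) (J : Ideal (A r)) (N : ℕ) (f : PowerSeries R) (c : A r)
    (hf : ∀ n, algebraMap R (A r) (PowerSeries.coeff n f) * z r i ^ n * c ∈ J) :
    ev r i f * c ∈ J ⊔ Ideal.span {z r i ^ N * c} := by
  induction N generalizing f c with
  | zero =>
    refine Ideal.mem_sup_right ?_
    rw [pow_zero, one_mul]
    exact Ideal.mul_mem_left _ _ (Ideal.mem_span_singleton_self c)
  | succ N ih =>
    have h1 : f = PowerSeries.C (PowerSeries.coeff 0 f) +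
        PowerSeries.X * PowerSeries.mk fun n ↦ PowerSeries.coeff (n + 1) f := by
      have h0 : f = PowerSeries.mk fun n ↦ PowerSeries.coeff n f := by
        ext n
        rw [PowerSeries.coeff_mk]
      conv_lhs => rw [h0, mk_eq]
    have h2 := ih (PowerSeries.mk fun n ↦ PowerSeries.coeff (n + 1) f) (z r i * c) (fun n ↦ by
      have := hf (n + 1)
      rw [PowerSeries.coeff_mk]
      rw [pow_succ] at this
      convert this using 1
      ring)
    rw [← mul_assoc (z r i ^ N), ← pow_succ] at h2
    have h3 : ev r i f * c = algebraMap R (A r) (PowerSeries.coeff 0 f) * z r i ^ 0 * c +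
        ev r i (PowerSeries.mk fun n ↦ PowerSeries.coeff (n + 1) f) * (z r i * c) := by
      conv_lhs => rw [h1, map_add, map_mul, ev_C, ev_X]
      ring
    rw [h3]
    exact Ideal.add_mem _ (Ideal.mem_sup_left (hf 0)) h2

theorem dec_mem_sup (J : Ideal (A r)) (N : ℕ) (h : ℤ → R)
    (hJ : ∀ k, dec r (Pi.single k (h k)) ∈ J) :
    dec r h ∈ J ⊔ Ideal.span {z r 0 ^ N} ⊔ Ideal.span {z r 1 ^ N} := by
  rw [dec_apply]
  refine Ideal.add_mem _ ?_ ?_
  · refine Ideal.mem_sup_left ?_
    have h1 := ev_mul_mem 0 J N (PowerSeries.mk fun n ↦ h (n : ℤ)) 1 (fun n ↦ by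
      have := hJ n
      rw [dec_single, mono_natCast] at this
      rwa [PowerSeries.coeff_mk, mul_one])
    rwa [mul_one, mul_one] at h1
  · have h1 := ev_mul_mem 1 J N (PowerSeries.mk fun n ↦ h (-(n + 1 : ℤ))) (z r 1) (fun n ↦ by
      have := hJ (-((n + 1 : ℕ) : ℤ))
      rw [dec_single, mono_neg_natCast, pow_succ, ← mul_assoc] at this
      rw [PowerSeries.coeff_mk]
      push_cast at this
      exact this)
    rw [mul_comm (ev r 1 _) (z r 1)] at h1
    have h2 : J ⊔ Ideal.span {z r 1 ^ N * z r 1} ≤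
        J ⊔ Ideal.span {z r 0 ^ N} ⊔ Ideal.span {z r 1 ^ N} := by
      refine sup_le (le_sup_left.trans le_sup_left) (le_sup_of_le_right ?_)
      rw [Ideal.span_singleton_le_iff_mem]
      exact Ideal.mul_mem_right _ _ (Ideal.mem_span_singleton_self _)
    exact h2 h1

end Closed

/-- Ideals of a Noetherian local ring are closed. -/
theorem mem_of_forall_mem_sup {B : Type*} [CommRing B] [IsLocalRing B] [IsNoetherianRing B]
    (J : Ideal B) {a : B} (h : ∀ N : ℕ, a ∈ J ⊔ maximalIdeal B ^ N) : a ∈ J := by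
  rw [← Ideal.Quotient.eq_zero_iff_mem, ← Submodule.mem_bot B,
    ← Ideal.iInf_pow_smul_eq_bot_of_isLocalRing (maximalIdeal B) (M := B ⧸ J)
      (Ideal.IsPrime.ne_top inferInstance), Submodule.mem_iInf]
  intro N
  obtain ⟨j, hj, x, hx, rfl⟩ := Submodule.mem_sup.mp (h N)
  have h1 : Ideal.Quotient.mk J (j + x) = x • (1 : B ⧸ J) := by
    rw [map_add, Ideal.Quotient.eq_zero_iff_mem.mpr hj, zero_add, Algebra.smul_def, mul_one]
    rfl
  rw [h1]
  exact Submodule.smul_mem_smul hx trivial

theorem exists_unit_mul {R : Type u} [CommRing R] [IsLocalRing R] [IsNoetherianRing R]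
    [IsAdicComplete (maximalIdeal R) R] [IsDomain R] [UniqueFactorizationMonoid R] {r : R}
    (hr : r ∈ maximalIdeal R) (hr0 : r ≠ 0) {a b : A r} {t : R} (ht : t ≠ 0)
    (hab : a * b = algebraMap R (A r) t) :
    ∃ (k : ℤ) (s : R) (u : (A r)ˣ), a = algebraMap R (A r) s * mono r k * u := by
  have hA : IsDomain (A r) := isDomain hr hr0
  have hloc : IsLocalRing (A r) := isLocalRing hr
  have hinj : ∀ s : R, s ≠ 0 → algebraMap R (A r) s ≠ 0 := by
    intro s hs h0
    have h1 : (1 : A r) = 0 := isSMulRegular_of_isSMulRegular hr (s := s)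
      (fun x hx ↦ (mul_eq_zero.mp hx).resolve_left hs) (by rw [h0, zero_mul])
    exact one_ne_zero h1
  have hb0 : b ≠ 0 := fun h ↦ hinj t ht (by rw [← hab, h, mul_zero])
  have ha0 : a ≠ 0 := fun h ↦ hinj t ht (by rw [← hab, h, zero_mul])
  obtain ⟨h, rfl⟩ := dec_surjective hr a
  -- every component is divisible by `a`
  have h1 : ∀ k, ∃ c, dec r (Pi.single k (h k)) = dec r h * c := by
    intro k
    obtain ⟨d, hd⟩ := dvd_comp_mul_of_ne_zero hr hr0 ht (h := h) (b := b) (by rw [hab]) k
    refine ⟨d, ?_⟩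
    rw [← hab] at hd
    apply mul_right_cancel₀ hb0
    linear_combination hd
  choose c hc using h1
  by_cases hu : ∃ k, IsUnit (c k)
  · obtain ⟨k, u, hu⟩ := hu
    refine ⟨k, h k, u⁻¹, ?_⟩
    rw [← dec_single, hc k, ← hu, mul_assoc, Units.mul_inv, mul_one]
  · exfalso
    push Not at hu
    have h2 : ∀ k, dec r (Pi.single k (h k)) ∈ maximalIdeal (A r) * Ideal.span {dec r h} := by
      intro k
      rw [hc k, mul_comm (dec r h) (c k)]
      exact Ideal.mul_mem_mul (hu k) (Ideal.mem_span_singleton_self _)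
    have h3 : dec r h ∈ maximalIdeal (A r) * Ideal.span {dec r h} := by
      apply mem_of_forall_mem_sup
      intro N
      have h4 := dec_mem_sup _ N h h2
      have h5 : maximalIdeal (A r) * Ideal.span {dec r h} ⊔ Ideal.span {z r 0 ^ N} ⊔
          Ideal.span {z r 1 ^ N} ≤ maximalIdeal (A r) * Ideal.span {dec r h} ⊔
            maximalIdeal (A r) ^ N := by
        refine sup_le (sup_le le_sup_left (le_sup_of_le_right ?_)) (le_sup_of_le_right ?_)
        · rw [Ideal.span_singleton_le_iff_mem]
          exact Ideal.pow_mem_pow (z_mem hr 0) N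
        · rw [Ideal.span_singleton_le_iff_mem]
          exact Ideal.pow_mem_pow (z_mem hr 1) N
      exact h5 h4
    rw [Ideal.mem_mul_span_singleton] at h3
    obtain ⟨m, hm, hm'⟩ := h3
    have h4 : (1 - m) * dec r h = 0 := by linear_combination -hm'
    rcases mul_eq_zero.mp h4 with h5 | h5
    · have : m = 1 := by linear_combination -h5
      rw [this] at hm
      exact hm isUnit_one
    · exact ha0 h5

end K70.Node
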