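import Groth.Agent.CAlg.K70.NodeBasic

/-!
# Orders along the primes `(π, x)`, `(π, y)` of `R[[x, y]] / (x y - r)`

`P π i n a`: the element `a` is divisible by `π ^ n` after multiplication by a power of `z i`.
* `P_mul`, `exists_of_P_mul`: multiplicativity (`π` a prime element dividing `r`).
* `P_comp`: if `P π i n a` then all homogeneous components of `a` satisfy it.
* `dvd_of_P`: `P π 0 n a` and `P π 1 n a` imply `π ^ n ∣ a`.
* `dvd_comp_mul`: if `π ^ n ∣ a * b` then `π ^ n` divides the product of any component of `a` with `b`.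
-/

set_option autoImplicit false
universe u

open IsLocalRing MvPowerSeries

namespace K70.Node

section Shift

variable {R : Type u} [CommRing R] (r : R)

/-- Multiplication by `z 0 = x` on coefficient families. -/
def sh0 (h : ℤ → R) : ℤ → R := fun k ↦ if 1 ≤ k then h (k - 1) else r * h (k - 1)

/-- Multiplication by `z 1 = y` on coefficient families. -/
def sh1 (h : ℤ → R) : ℤ → R := fun k ↦ if k ≤ -1 then h (k + 1) else r * h (k + 1)

theorem mk_eq (h : ℕ → R) : PowerSeries.mk h =
    PowerSeries.C (h 0) + PowerSeries.X * PowerSeries.mk fun n ↦ h (n + 1) := by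
  ext n
  cases n with
  | zero => simp
  | succ n => simp [PowerSeries.coeff_succ_X_mul]

theorem z_zero_mul_dec (h : ℤ → R) : z r 0 * dec r h = dec r (sh0 r h) := by
  have e1 : (PowerSeries.mk fun n : ℕ ↦ sh0 r h (n : ℤ)) =
      PowerSeries.C (r * h (-1)) + PowerSeries.X * PowerSeries.mk fun n ↦ h (n : ℤ) := by
    rw [mk_eq]
    have e2 : (fun n : ℕ ↦ sh0 r h ((n + 1 : ℕ) : ℤ)) = fun n : ℕ ↦ h (n : ℤ) := by
      ext n
      simp [sh0]
    rw [e2]
    simp [sh0]
  have e3 : (PowerSeries.mk fun n : ℕ ↦ sh0 r h (-(n + 1 : ℤ))) =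
      PowerSeries.C r * PowerSeries.mk fun n : ℕ ↦ h (-((n : ℤ) + 1 + 1)) := by
    ext n
    rw [PowerSeries.coeff_C_mul, PowerSeries.coeff_mk, PowerSeries.coeff_mk, sh0, if_neg (by omega)]
    congr 2
  have e4 : (PowerSeries.mk fun n : ℕ ↦ h (-(n + 1 : ℤ))) =
      PowerSeries.C (h (-1)) + PowerSeries.X * PowerSeries.mk fun n : ℕ ↦ h (-((n : ℤ) + 1 + 1)) := by
    rw [mk_eq]
    simp
  rw [dec_apply, dec_apply, e1, e3, e4, map_add, map_add, map_mul (ev r 0) PowerSeries.X,
    map_mul (ev r 1) PowerSeries.X, map_mul (ev r 1) (PowerSeries.C r), ev_C, ev_C, ev_C, ev_X, ev_X,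
    map_mul (algebraMap R (A r))]
  have h1 := z_zero_mul_z_one r
  linear_combination (algebraMap R (A r) (h (-1)) +
    z r 1 * ev r 1 (PowerSeries.mk fun n ↦ h (-((n : ℤ) + 1 + 1)))) * h1

theorem z_one_mul_dec (h : ℤ → R) : z r 1 * dec r h = dec r (sh1 r h) := by
  have e1 : (PowerSeries.mk fun n : ℕ ↦ sh1 r h (-(n + 1 : ℤ))) =
      PowerSeries.C (h 0) + PowerSeries.X * PowerSeries.mk fun n : ℕ ↦ h (-(n + 1 : ℤ)) := by
    rw [mk_eq]
    have e2 : (fun n : ℕ ↦ sh1 r h (-(((n + 1 : ℕ) : ℤ) + 1))) = fun n : ℕ ↦ h (-(n + 1 : ℤ)) := by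
      ext n
      rw [sh1, if_pos (by omega)]
      congr 1
    rw [e2]
    simp [sh1]
  have e3 : (PowerSeries.mk fun n : ℕ ↦ sh1 r h (n : ℤ)) =
      PowerSeries.C r * PowerSeries.mk fun n : ℕ ↦ h ((n : ℤ) + 1) := by
    ext n
    rw [PowerSeries.coeff_C_mul, PowerSeries.coeff_mk, PowerSeries.coeff_mk, sh1, if_neg (by omega)]
  have e4 : (PowerSeries.mk fun n : ℕ ↦ h (n : ℤ)) =
      PowerSeries.C (h 0) + PowerSeries.X * PowerSeries.mk fun n : ℕ ↦ h ((n : ℤ) + 1) := by
    rw [mk_eq]
    simp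
  rw [dec_apply, dec_apply, e1, e3, e4, map_add, map_add, map_mul (ev r 0) PowerSeries.X,
    map_mul (ev r 1) PowerSeries.X, map_mul (ev r 0) (PowerSeries.C r), ev_C, ev_C, ev_C, ev_X, ev_X]
  have h1 := z_zero_mul_z_one r
  linear_combination (ev r 0 (PowerSeries.mk fun n ↦ h ((n : ℤ) + 1))) * h1

theorem z_zero_pow_mul_dec (N : ℕ) (h : ℤ → R) : z r 0 ^ N * dec r h = dec r ((sh0 r)^[N] h) := by
  induction N generalizing h with
  | zero => simp
  | succ N ih => rw [pow_succ, mul_assoc, z_zero_mul_dec, ih, Function.iterate_succ_apply]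

theorem z_one_pow_mul_dec (N : ℕ) (h : ℤ → R) : z r 1 ^ N * dec r h = dec r ((sh1 r)^[N] h) := by
  induction N generalizing h with
  | zero => simp
  | succ N ih => rw [pow_succ, mul_assoc, z_one_mul_dec, ih, Function.iterate_succ_apply]

theorem sh0_iterate_of_nonneg (N : ℕ) (h : ℤ → R) (k : ℤ) (hk : 0 ≤ k) :
    (sh0 r)^[N] h (k + N) = h k := by
  induction N generalizing h k with
  | zero => simp
  | succ N ih =>
    rw [Function.iterate_succ_apply', sh0, if_pos (by push_cast; omega)]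
    have : k + ((N + 1 : ℕ) : ℤ) - 1 = k + N := by push_cast; ring
    rw [this]
    exact ih h k hk

theorem sh1_iterate_of_nonpos (N : ℕ) (h : ℤ → R) (k : ℤ) (hk : k ≤ 0) :
    (sh1 r)^[N] h (k - N) = h k := by
  induction N generalizing h k with
  | zero => simp
  | succ N ih =>
    rw [Function.iterate_succ_apply', sh1, if_pos (by push_cast; omega)]
    have : k - ((N + 1 : ℕ) : ℤ) + 1 = k - N := by push_cast; ring
    rw [this]
    exact ih h k hk

theorem sh0_iterate_neg (m : ℕ) (h : ℤ → R) (j : ℕ) :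
    (sh0 r)^[m] h (-j) = r ^ m * h (-j - m) := by
  induction m generalizing h j with
  | zero => simp
  | succ m ih =>
    rw [Function.iterate_succ_apply', sh0, if_neg (by omega)]
    have h1 := ih h (j + 1)
    have : (-(j : ℤ) - 1) = -((j + 1 : ℕ) : ℤ) := by push_cast; ring
    rw [this, h1, pow_succ']
    have h2 : (-((j + 1 : ℕ) : ℤ) - m) = -j - ((m + 1 : ℕ) : ℤ) := by push_cast; ring
    rw [h2, mul_assoc]

theorem sh1_iterate_pos (m : ℕ) (h : ℤ → R) (j : ℕ) :
    (sh1 r)^[m] h j = r ^ m * h (j + m) := by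
  induction m generalizing h j with
  | zero => simp
  | succ m ih =>
    rw [Function.iterate_succ_apply', sh1, if_neg (by omega)]
    have h1 := ih h (j + 1)
    have : ((j : ℤ) + 1) = ((j + 1 : ℕ) : ℤ) := by push_cast; ring
    rw [this, h1, pow_succ']
    have h2 : (((j + 1 : ℕ) : ℤ) + m) = j + ((m + 1 : ℕ) : ℤ) := by push_cast; ring
    rw [h2, mul_assoc]

/-- The homogeneous generator in degree `k`: `x ^ k` or `y ^ (-k)`. -/
noncomputable def mono (k : ℤ) : A r := if 0 ≤ k then z r 0 ^ k.toNat else z r 1 ^ (-k).toNat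

theorem mono_natCast (n : ℕ) : mono r n = z r 0 ^ n := by
  rw [mono, if_pos (by omega), Int.toNat_natCast]

theorem mono_neg_natCast (n : ℕ) : mono r (-n) = z r 1 ^ n := by
  rcases n.eq_zero_or_pos with rfl | hn
  · simp [mono]
  · rw [mono, if_neg (by omega), neg_neg, Int.toNat_natCast]

theorem dec_single (k : ℤ) (c : R) : dec r (Pi.single k c) = algebraMap R (A r) c * mono r k := by
  have h0 : dec r (Pi.single 0 c) = algebraMap R (A r) c := by
    rw [dec_apply, mk_eq]
    have e1 : (PowerSeries.mk fun n : ℕ ↦ (Pi.single (0 : ℤ) c : ℤ → R) ((n + 1 : ℕ) : ℤ)) = 0 := by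
      ext n
      rw [PowerSeries.coeff_mk, Pi.single_eq_of_ne (by omega), map_zero]
    have e2 : (PowerSeries.mk fun n : ℕ ↦ (Pi.single (0 : ℤ) c : ℤ → R) (-(n + 1 : ℤ))) = 0 := by
      ext n
      rw [PowerSeries.coeff_mk, Pi.single_eq_of_ne (by omega), map_zero]
    rw [e1, e2]
    simp [ev_C]
  rcases le_or_gt 0 k with hk | hk
  · obtain ⟨n, rfl⟩ := Int.eq_ofNat_of_zero_le hk
    rw [mono_natCast]
    induction n with
    | zero => simpa using h0
    | succ n ih =>
      have e1 : (Pi.single ((n + 1 : ℕ) : ℤ) c : ℤ → R) = sh0 r (Pi.single (n : ℤ) c) := by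
        ext k
        rw [sh0]
        by_cases hk : k = ((n + 1 : ℕ) : ℤ)
        · subst hk
          rw [Pi.single_eq_same, if_pos (by push_cast; omega)]
          have : ((n + 1 : ℕ) : ℤ) - 1 = n := by push_cast; ring
          rw [this, Pi.single_eq_same]
        · rw [Pi.single_eq_of_ne hk, Pi.single_eq_of_ne (by push_cast at hk; omega)]
          simp
      rw [e1, ← z_zero_mul_dec, ih (by omega), pow_succ]
      ring
  · obtain ⟨n, rfl⟩ : ∃ n : ℕ, k = -(n : ℤ) := ⟨(-k).toNat, by omega⟩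
    rw [mono_neg_natCast]
    clear hk
    induction n with
    | zero => simpa using h0
    | succ n ih =>
      have e1 : (Pi.single (-((n + 1 : ℕ) : ℤ)) c : ℤ → R) = sh1 r (Pi.single (-(n : ℤ)) c) := by
        ext k
        rw [sh1]
        by_cases hk : k = -((n + 1 : ℕ) : ℤ)
        · subst hk
          rw [Pi.single_eq_same, if_pos (by push_cast; omega)]
          have : -((n + 1 : ℕ) : ℤ) + 1 = -n := by push_cast; ring
          rw [this, Pi.single_eq_same]
        · rw [Pi.single_eq_of_ne hk, Pi.single_eq_of_ne (by push_cast at hk; omega)]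
          simp
      rw [e1, ← z_one_mul_dec, ih, pow_succ]
      ring

end Shift

section Order

variable {R : Type u} [CommRing R] {r : R}

/-- `π ^ n` divides `(z i) ^ N * a` for some `N`. -/
def P (π : R) (i : Fin 2) (n : ℕ) (a : A r) : Prop :=
  ∃ N : ℕ, algebraMap R (A r) (π ^ n) ∣ z r i ^ N * a

theorem P_zero (π : R) (i : Fin 2) (a : A r) : P π i 0 a := ⟨0, by simp⟩

theorem P_mono {π : R} {i : Fin 2} {m n : ℕ} (h : m ≤ n) {a : A r} (ha : P π i n a) : P π i m a := by
  obtain ⟨N, hN⟩ := ha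
  exact ⟨N, (map_dvd _ (pow_dvd_pow π h)).trans hN⟩

theorem P_mul {π : R} {i : Fin 2} {m n : ℕ} {a b : A r} (ha : P π i m a) (hb : P π i n b) :
    P π i (m + n) (a * b) := by
  obtain ⟨N, hN⟩ := ha
  obtain ⟨M, hM⟩ := hb
  refine ⟨N + M, ?_⟩
  rw [pow_add, map_mul, pow_add]
  have : z r i ^ N * z r i ^ M * (a * b) = (z r i ^ N * a) * (z r i ^ M * b) := by ring
  rw [this]
  exact mul_dvd_mul hN hM

theorem P_of_dvd {π : R} {i : Fin 2} {n : ℕ} {a : A r} (h : algebraMap R (A r) (π ^ n) ∣ a) :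
    P π i n a := ⟨0, by simpa using h⟩

variable [IsLocalRing R] [IsNoetherianRing R] [IsAdicComplete (maximalIdeal R) R]
  (hr : r ∈ maximalIdeal R)

include hr

theorem dvd_dec_iff (s : R) (h : ℤ → R) : algebraMap R (A r) s ∣ dec r h ↔ ∀ k, s ∣ h k := by
  constructor
  · rintro ⟨b, hb⟩ k
    obtain ⟨h', rfl⟩ := dec_surjective hr b
    rw [← smul_eq, ← map_smul] at hb
    rw [dec_injective hr hb]
    exact ⟨h' k, rfl⟩
  · intro hh
    choose c hc using hh
    refine ⟨dec r c, ?_⟩
    rw [← smul_eq, ← map_smul]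
    congr 1
    ext k
    exact hc k

theorem P_comp {π : R} {i : Fin 2} {n : ℕ} {h : ℤ → R} (ha : P π i n (dec r h)) (k : ℤ) :
    P π i n (dec r (Pi.single k (h k))) := by
  obtain ⟨N, hN⟩ := ha
  fin_cases i
  · rcases le_or_gt 0 k with hk | hk
    · change algebraMap R (A r) (π ^ n) ∣ z r 0 ^ N * dec r h at hN
      rw [z_zero_pow_mul_dec, dvd_dec_iff hr] at hN
      have h1 := hN (k + N)
      rw [sh0_iterate_of_nonneg r N h k hk] at h1
      apply P_of_dvd
      rw [dec_single]
      exact (map_dvd _ h1).mul_right _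
    · obtain ⟨m, rfl⟩ : ∃ n : ℕ, k = -(n : ℤ) := ⟨(-k).toNat, by omega⟩
      change algebraMap R (A r) (π ^ n) ∣ z r 0 ^ N * dec r h at hN
      have h1 : algebraMap R (A r) (π ^ n) ∣ z r 0 ^ (N + m) * dec r h := by
        rw [pow_add, mul_comm (z r 0 ^ N), mul_assoc]
        exact hN.mul_left _
      rw [z_zero_pow_mul_dec, dvd_dec_iff hr] at h1
      have h2 := h1 (0 + N)
      rw [Function.iterate_add_apply, sh0_iterate_of_nonneg r N _ 0 le_rfl] at h2
      have h3 := sh0_iterate_neg r m h 0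
      simp only [Nat.cast_zero, neg_zero, zero_sub] at h3
      rw [h3] at h2
      refine ⟨N + m, ?_⟩
      change algebraMap R (A r) (π ^ n) ∣ z r 0 ^ (N + m) * _
      rw [dec_single, mono_neg_natCast]
      have h4 : z r 0 ^ (N + m) * (algebraMap R (A r) (h (-m)) * z r 1 ^ m) =
          algebraMap R (A r) (r ^ m * h (-m)) * z r 0 ^ N := by
        rw [map_mul, map_pow, ← z_zero_mul_z_one]
        ring
      rw [h4]
      exact (map_dvd _ h2).mul_right _
  · rcases le_or_gt k 0 with hk | hk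
    · change algebraMap R (A r) (π ^ n) ∣ z r 1 ^ N * dec r h at hN
      rw [z_one_pow_mul_dec, dvd_dec_iff hr] at hN
      have h1 := hN (k - N)
      rw [sh1_iterate_of_nonpos r N h k hk] at h1
      apply P_of_dvd
      rw [dec_single]
      exact (map_dvd _ h1).mul_right _
    · obtain ⟨m, rfl⟩ : ∃ n : ℕ, k = (n : ℤ) := ⟨k.toNat, by omega⟩
      change algebraMap R (A r) (π ^ n) ∣ z r 1 ^ N * dec r h at hN
      have h1 : algebraMap R (A r) (π ^ n) ∣ z r 1 ^ (N + m) * dec r h := by
        rw [pow_add, mul_comm (z r 1 ^ N), mul_assoc]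
        exact hN.mul_left _
      rw [z_one_pow_mul_dec, dvd_dec_iff hr] at h1
      have h2 := h1 (0 - N)
      rw [Function.iterate_add_apply, sh1_iterate_of_nonpos r N _ 0 le_rfl] at h2
      have h3 := sh1_iterate_pos r m h 0
      simp only [Nat.cast_zero, zero_add] at h3
      rw [h3] at h2
      refine ⟨N + m, ?_⟩
      change algebraMap R (A r) (π ^ n) ∣ z r 1 ^ (N + m) * _
      rw [dec_single, mono_natCast]
      have h4 : z r 1 ^ (N + m) * (algebraMap R (A r) (h m) * z r 0 ^ m) =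
          algebraMap R (A r) (r ^ m * h m) * z r 1 ^ N := by
        rw [map_mul, map_pow, ← z_zero_mul_z_one]
        ring
      rw [h4]
      exact (map_dvd _ h2).mul_right _

/-- `P π 0 n a` and `P π 1 n a` imply `π ^ n ∣ a`. -/
theorem dvd_of_P {π : R} {n : ℕ} {a : A r} (h0 : P π 0 n a) (h1 : P π 1 n a) :
    algebraMap R (A r) (π ^ n) ∣ a := by
  obtain ⟨h, rfl⟩ := dec_surjective hr a
  rw [dvd_dec_iff hr]
  intro k
  rcases le_or_gt 0 k with hk | hk
  · obtain ⟨N, hN⟩ := h0
    rw [z_zero_pow_mul_dec, dvd_dec_iff hr] at hN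
    have h1 := hN (k + N)
    rwa [sh0_iterate_of_nonneg r N h k hk] at h1
  · obtain ⟨N, hN⟩ := h1
    rw [z_one_pow_mul_dec, dvd_dec_iff hr] at hN
    have h1 := hN (k - N)
    rwa [sh1_iterate_of_nonpos r N h k hk.le] at h1

/-- Elements of `R` which are nonzerodivisors are nonzerodivisors on `A r`. -/
theorem isSMulRegular_of_isSMulRegular {s : R} (hs : ∀ x : R, s * x = 0 → x = 0) {a : A r}
    (h : algebraMap R (A r) s * a = 0) : a = 0 := by
  obtain ⟨h', rfl⟩ := dec_surjective hr a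
  rw [← smul_eq, ← map_smul] at h
  have h1 := dec_injective hr (h.trans (map_zero _).symm)
  have h2 : h' = 0 := by
    ext k
    exact hs _ (congrFun h1 k)
  rw [h2, map_zero]

end Order

section Prime

variable {R : Type u} [CommRing R] {r : R}

/-- The reduction `A r → (R / π)[[T]]`, `z i ↦ T`, `z j ↦ 0`. -/
noncomputable def red (π : R) (hπ : π ∣ r) (i : Fin 2) : A r →+* PowerSeries (R ⧸ Ideal.span {π}) :=
  Ideal.Quotient.lift _ ((PowerSeries.map (Ideal.Quotient.mk (Ideal.span {π}))).comp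
    (kill (R := R) i).toRingHom) (by
    intro x hx
    obtain ⟨c, rfl⟩ := Ideal.mem_span_singleton'.1 hx
    rw [map_mul]
    have h1 : ((PowerSeries.map (Ideal.Quotient.mk (Ideal.span {π}))).comp
        (kill (R := R) i).toRingHom) (X 0 * X 1 - C r) = 0 := by
      change PowerSeries.map (Ideal.Quotient.mk (Ideal.span {π})) (kill i (X 0 * X 1 - C r)) = 0
      have h2 : kill i (X 0 * X 1 : MvPowerSeries (Fin 2) R) = 0 := by
        rw [map_mul]
        rcases eq_or_ne i 0 with rfl | hi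
        · rw [kill_X_of_ne (i := 0) (j := 1) (by decide), mul_zero]
        · rw [kill_X_of_ne hi, zero_mul]
      rw [map_sub, h2, kill_C, zero_sub, map_neg, PowerSeries.map_C,
        Ideal.Quotient.eq_zero_iff_mem.2 (Ideal.mem_span_singleton.mpr hπ)]
      simp
    rw [h1, mul_zero])

theorem red_mk (π : R) (hπ : π ∣ r) (i : Fin 2) (F : MvPowerSeries (Fin 2) R) :
    red π hπ i (Ideal.Quotient.mk _ F) =
      PowerSeries.map (Ideal.Quotient.mk (Ideal.span {π})) (kill i F) := rfl

theorem red_ev (π : R) (hπ : π ∣ r) (i : Fin 2) (f : PowerSeries R) :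
    red π hπ i (ev r i f) = PowerSeries.map (Ideal.Quotient.mk (Ideal.span {π})) f := by
  change red π hπ i (Ideal.Quotient.mk _ (emb i f)) = _
  rw [red_mk, kill_emb]

theorem red_z (π : R) (hπ : π ∣ r) (i : Fin 2) : red π hπ i (z r i) = PowerSeries.X := by
  rw [← ev_X, red_ev, PowerSeries.map_X]

theorem red_z_of_ne (π : R) (hπ : π ∣ r) {i j : Fin 2} (h : i ≠ j) : red π hπ i (z r j) = 0 := by
  change red π hπ i (Ideal.Quotient.mk _ (X j)) = _
  rw [red_mk, kill_X_of_ne h, map_zero]

theorem red_algebraMap (π : R) (hπ : π ∣ r) (i : Fin 2) (s : R) :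
    red π hπ i (algebraMap R (A r) s) = PowerSeries.C (Ideal.Quotient.mk (Ideal.span {π}) s) := by
  rw [← ev_C r i, red_ev, PowerSeries.map_C]

theorem exists_of_map_eq_zero {π : R} {f : PowerSeries R}
    (h : PowerSeries.map (Ideal.Quotient.mk (Ideal.span {π})) f = 0) :
    ∃ g, f = PowerSeries.C π * g := by
  have h1 : ∀ n, ∃ c : R, PowerSeries.coeff n f = π * c := by
    intro n
    have := congrArg (PowerSeries.coeff n) h
    rw [PowerSeries.coeff_map, map_zero, Ideal.Quotient.eq_zero_iff_mem] at this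
    obtain ⟨c, hc⟩ := Ideal.mem_span_singleton'.1 this
    exact ⟨c, by rw [← hc]; ring⟩
  choose c hc using h1
  refine ⟨PowerSeries.mk c, ?_⟩
  ext n
  rw [PowerSeries.coeff_C_mul, hc n, PowerSeries.coeff_mk]

/-- The kernel of `red π i` is generated by `π` and the other variable. -/
theorem exists_of_red_eq_zero {π : R} (hπ : π ∣ r) {i j : Fin 2} (hij : i ≠ j) {a : A r}
    (h : red π hπ i a = 0) :
    ∃ b c : A r, a = algebraMap R (A r) π * b + z r j * c := by
  obtain ⟨f, g, b, rfl⟩ := exists_decomp_mod r hij a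
  rw [map_add, map_add, map_mul, map_mul, red_z_of_ne π hπ hij, zero_mul, add_zero, red_ev,
    red_algebraMap, Ideal.Quotient.eq_zero_iff_mem.2 (Ideal.mem_span_singleton.mpr hπ), map_zero,
    zero_mul, add_zero] at h
  obtain ⟨f', rfl⟩ := exists_of_map_eq_zero h
  obtain ⟨c, hc⟩ := hπ
  refine ⟨ev r i f' + algebraMap R (A r) c * b, ev r j g, ?_⟩
  have h1 : algebraMap R (A r) r = algebraMap R (A r) π * algebraMap R (A r) c := by
    rw [← map_mul, ← hc]
  rw [map_mul, ev_C, h1]
  ring

theorem dvd_z_mul_of_red_eq_zero {π : R} (hπ : π ∣ r) {i : Fin 2} {a : A r}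
    (h : red π hπ i a = 0) : algebraMap R (A r) π ∣ z r i * a := by
  obtain ⟨j, hij⟩ : ∃ j : Fin 2, i ≠ j := ⟨1 - i, by omega⟩
  obtain ⟨b, c, rfl⟩ := exists_of_red_eq_zero hπ hij h
  rw [mul_add, ← mul_assoc _ (z r j), z_mul_z r hij]
  exact dvd_add ⟨z r i * b, by ring⟩ ((map_dvd _ hπ).mul_right _)

variable [IsLocalRing R] [IsNoetherianRing R] [IsAdicComplete (maximalIdeal R) R]
  (hr : r ∈ maximalIdeal R)

include hr

theorem exists_of_P_mul [IsDomain R] {π : R} (hπ : Prime π) (hπr : π ∣ r) {i : Fin 2} {n : ℕ} {a b : A r}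
    (h : P π i n (a * b)) : ∃ p q, p + q = n ∧ P π i p a ∧ P π i q b := by
  have hdom : IsDomain (R ⧸ Ideal.span {π}) := by
    rw [Ideal.Quotient.isDomain_iff_prime, Ideal.span_singleton_prime hπ.ne_zero]
    exact hπ
  induction n generalizing a b with
  | zero => exact ⟨0, 0, rfl, P_zero _ _ _, P_zero _ _ _⟩
  | succ n ih =>
    obtain ⟨N, c, hc⟩ := h
    have h1 := congrArg (red π hπr i) hc
    have h0 : red π hπr i (algebraMap R (A r) (π ^ (n + 1))) = 0 := by
      rw [red_algebraMap, Ideal.Quotient.eq_zero_iff_mem.2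
        (Ideal.mem_span_singleton.mpr (dvd_pow_self π (Nat.succ_ne_zero n))), map_zero]
    rw [map_mul, map_mul, map_mul (red π hπr i) (algebraMap R (A r) (π ^ (n + 1))), h0, map_pow, red_z,
      zero_mul, mul_eq_zero, mul_eq_zero] at h1
    have key : ∀ {a b : A r}, red π hπr i a = 0 → z r i ^ N * (a * b) = algebraMap R (A r) (π ^ (n + 1)) * c →
        ∃ p q, p + q = n + 1 ∧ P π i p a ∧ P π i q b := by
      intro a b ha hab
      obtain ⟨a', ha'⟩ := dvd_z_mul_of_red_eq_zero hπr ha
      have h2 : z r i ^ N * (a' * b) = algebraMap R (A r) (π ^ n) * (z r i * c) := by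
        have h3 : algebraMap R (A r) π * (z r i ^ N * (a' * b) -
            algebraMap R (A r) (π ^ n) * (z r i * c)) = 0 := by
          rw [pow_succ, map_mul] at hab
          linear_combination z r i * hab - z r i ^ N * b * ha'
        exact sub_eq_zero.mp (isSMulRegular_of_isSMulRegular hr (s := π)
          (fun x hx ↦ (mul_eq_zero.mp hx).resolve_left hπ.ne_zero) h3)
      obtain ⟨p, q, hpq, hp, hq⟩ := ih (a := a') (b := b) ⟨N, z r i * c, h2⟩
      refine ⟨p + 1, q, by omega, ?_, hq⟩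
      obtain ⟨M, d, hd⟩ := hp
      refine ⟨M + 1, d, ?_⟩
      rw [pow_succ, mul_assoc, ha', pow_succ, map_mul]
      linear_combination algebraMap R (A r) π * hd
    rcases h1 with h1 | h1 | h1
    · exact absurd h1 (pow_ne_zero _ PowerSeries.X_ne_zero)
    · exact key h1 hc
    · obtain ⟨p, q, hpq, hp, hq⟩ := key (a := b) (b := a) h1 (by rw [mul_comm b a]; exact hc)
      exact ⟨q, p, by omega, hq, hp⟩

theorem dvd_comp_mul [IsDomain R] {π : R} (hπ : Prime π) (hπr : π ∣ r) {n : ℕ} {h : ℤ → R} {b : A r}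
    (hab : algebraMap R (A r) (π ^ n) ∣ dec r h * b) (k : ℤ) :
    algebraMap R (A r) (π ^ n) ∣ dec r (Pi.single k (h k)) * b := by
  have key : ∀ i, P π i n (dec r (Pi.single k (h k)) * b) := by
    intro i
    obtain ⟨p, q, rfl, hp, hq⟩ := exists_of_P_mul hr hπ hπr (i := i) (P_of_dvd hab)
    exact P_mul (P_comp hr hp k) hq
  exact dvd_of_P hr (key 0) (key 1)

/-- `A r` is a domain if `R` has a prime element dividing `r ≠ 0`. -/
theorem isDomain_of_prime [IsDomain R] {π : R} (hπ : Prime π) (hπr : π ∣ r) (hr0 : r ≠ 0) :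
    IsDomain (A r) := by
  have hnt := nontrivial hr
  have hinf : ∀ x : R, (∀ n : ℕ, π ^ n ∣ x) → x = 0 := by
    intro x hx
    have h1 : x ∈ ⨅ n : ℕ, Ideal.span {π} ^ n := by
      rw [Ideal.mem_iInf]
      intro n
      rw [Ideal.span_singleton_pow, Ideal.mem_span_singleton]
      exact hx n
    rw [Ideal.iInf_pow_eq_bot_of_isLocalRing _ (by
      rw [Ne, Ideal.span_singleton_eq_top]
      exact hπ.not_isUnit)] at h1
    exact h1
  have key : ∀ a : A r, (∀ n, P π 0 n a) → a = 0 := by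
    intro a ha
    obtain ⟨h, rfl⟩ := dec_surjective hr a
    have h1 : h = 0 := by
      ext k
      rcases le_or_gt 0 k with hk | hk
      · apply hinf
        intro n
        obtain ⟨N, hN⟩ := ha n
        rw [z_zero_pow_mul_dec, dvd_dec_iff hr] at hN
        have h1 := hN (k + N)
        rwa [sh0_iterate_of_nonneg r N h k hk] at h1
      · obtain ⟨m, rfl⟩ : ∃ n : ℕ, k = -(n : ℤ) := ⟨(-k).toNat, by omega⟩
        have h2 : r ^ m * h (-m) = 0 := by
          apply hinf
          intro n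
          obtain ⟨N, hN⟩ := ha n
          have h1 : algebraMap R (A r) (π ^ n) ∣ z r 0 ^ (N + m) * dec r h := by
            rw [pow_add, mul_comm (z r 0 ^ N), mul_assoc]
            exact hN.mul_left _
          rw [z_zero_pow_mul_dec, dvd_dec_iff hr] at h1
          have h2 := h1 (0 + N)
          rw [Function.iterate_add_apply, sh0_iterate_of_nonneg r N _ 0 le_rfl] at h2
          have h3 := sh0_iterate_neg r m h 0
          simp only [Nat.cast_zero, neg_zero, zero_sub] at h3
          rwa [h3] at h2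
        exact (mul_eq_zero.mp h2).resolve_left (pow_ne_zero _ hr0)
    rw [h1, map_zero]
  have : NoZeroDivisors (A r) := by
    refine ⟨fun {a b} hab ↦ ?_⟩
    by_contra! hne
    obtain ⟨n, hn⟩ : ∃ n, ¬ P π 0 n a := by
      by_contra! h
      exact hne.1 (key a h)
    obtain ⟨m, hm⟩ : ∃ n, ¬ P π 0 n b := by
      by_contra! h
      exact hne.2 (key b h)
    obtain ⟨p, q, hpq, hp, hq⟩ := exists_of_P_mul hr hπ hπr (i := 0) (n := n + m) (a := a) (b := b)
      (P_of_dvd (by rw [hab]; exact dvd_zero _))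
    rcases (show n ≤ p ∨ m ≤ q by omega) with h | h
    · exact hn (P_mono h hp)
    · exact hm (P_mono h hq)
  exact NoZeroDivisors.to_isDomain _

end Prime

end K70.Node
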