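import Groth.Agent.UnramA.RegFibCov
import Groth.Agent.CurvesB.EtaleCompl
import Groth.Agent.Etalg.PairHens2
import Groth.Agent.S2047
import Groth.Agent.S1994

/-!
# The henselization of a pair over a G-ring is a G-ring

* `covered`: a henselization of a pair is covered by étale algebras.
* `covered_localization`, `covered_tower`: stability of `IsEtaleCovered`.
* `isGRing_of_covered`: if `A → B` is flat, covered by étale algebras, `B` Noetherian, `m B` maximal with
  trivial residue extension for all maximal ideals `n` of `B`, `m = n ∩ A`, then `B` is a G-ring if `A` is.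
* `isGRing_pair`: the henselization of a pair `(A, I)` with `A` a G-ring is a G-ring.
-/

set_option autoImplicit false
universe u

open TensorProduct IsLocalRing

namespace K70.PairHensG

open Groth.Agent.Hensel.EtaleNbhd Groth.Agent.Etalg.PtEt Groth.Agent.Etalg.PtEtSystem
  Groth.Agent.Etalg.PtEtHens Groth.Agent.Etalg.PairHens Groth.Agent.Etalg.PairHens2

theorem covered_Hens (A K : Type u) [CommRing A] [CommRing K] [Algebra A K] :
    IsEtaleCovered A (Hens A K) := by
  intro s
  obtain ⟨i, hi⟩ := exists_ofR_finset s
  exact ⟨i.R, inferInstance, inferInstance, inferInstance, ofR i, fun x hx ↦ hi x hx⟩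

theorem covered_of_equiv {A B B' : Type u} [CommRing A] [CommRing B] [CommRing B'] [Algebra A B]
    [Algebra A B'] (h : IsEtaleCovered A B) (e : B ≃ₐ[A] B') : IsEtaleCovered A B' := by
  classical
  intro s
  obtain ⟨E, i1, i2, i3, φ, hφ⟩ := h (s.image e.symm)
  refine ⟨E, i1, i2, i3, e.toAlgHom.comp φ, fun x hx ↦ ?_⟩
  obtain ⟨y, hy⟩ := hφ (Finset.mem_coe.mpr (Finset.mem_image_of_mem e.symm (Finset.mem_coe.mp hx)))
  refine ⟨y, ?_⟩
  change e (φ y) = x
  rw [hy, AlgEquiv.apply_symm_apply]

/-- A henselization of a pair is covered by étale algebras. -/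
theorem covered {A : Type u} [CommRing A] {I : Ideal A} {B : Type u} [CommRing B] [Algebra A B]
    (h : Hens2.IsPairHenselization A I B) : IsEtaleCovered A B := by
  obtain ⟨e⟩ := exists_equiv h (isPairHenselization_Hens A I)
  exact covered_of_equiv (covered_Hens A (A ⧸ I)) e.symm

theorem covered_tower {A A' C : Type u} [CommRing A] [CommRing A'] [CommRing C] [Algebra A A']
    [Algebra A C] [Algebra A' C] [IsScalarTower A A' C] (h : IsEtaleCovered A C) :
    IsEtaleCovered A' C := by
  intro s
  obtain ⟨E, i1, i2, i3, φ, hφ⟩ := h s
  refine ⟨A' ⊗[A] E, inferInstance, inferInstance, inferInstance,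
    Algebra.TensorProduct.lift (Algebra.ofId A' C) φ (fun _ _ ↦ Commute.all _ _), fun x hx ↦ ?_⟩
  obtain ⟨y, hy⟩ := hφ hx
  refine ⟨1 ⊗ₜ y, ?_⟩
  rw [Algebra.TensorProduct.lift_tmul, map_one, one_mul, hy]

theorem covered_localization {A S S' : Type u} [CommRing A] [CommRing S] [CommRing S'] [Algebra A S]
    [Algebra A S'] [Algebra S S'] [IsScalarTower A S S'] (M : Submonoid S) [IsLocalization M S']
    (h : IsEtaleCovered A S) : IsEtaleCovered A S' := by
  classical
  intro s
  obtain ⟨t, ht⟩ := IsLocalization.exist_integer_multiples_of_finset M s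
  choose! a ha using ht
  obtain ⟨E, i1, i2, i3, φ, hφ⟩ := h (insert (t : S) (s.image a))
  obtain ⟨t', ht'⟩ := hφ (Finset.mem_coe.mpr (Finset.mem_insert_self _ _))
  let f : E →ₐ[A] S' := (IsScalarTower.toAlgHom A S S').comp φ
  have hf : f t' = algebraMap S S' t := by
    change algebraMap S S' (φ t') = _
    rw [ht']
  have hu : IsUnit (f t') := by
    rw [hf]
    exact IsLocalization.map_units S' t
  let g : Localization.Away t' →ₐ[A] S' :=
    IsLocalization.liftAlgHom (M := Submonoid.powers t') (f := f) (by
      rintro ⟨_, n, rfl⟩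
      change IsUnit (f (t' ^ n))
      rw [map_pow]
      exact hu.pow n)
  have hg : ∀ x, g (algebraMap E _ x) = f x := fun x ↦
    IsLocalization.lift_eq _ x
  have het : Algebra.Etale A (Localization.Away t') := by
    have : Algebra.Etale E (Localization.Away t') := Algebra.Etale.of_isLocalizationAway t'
    exact Algebra.Etale.comp A E (Localization.Away t')
  refine ⟨Localization.Away t', inferInstance, inferInstance, het, g, fun x hx ↦ ?_⟩
  obtain ⟨y, hy⟩ := hφ (Finset.mem_coe.mpr (Finset.mem_insert_of_mem
    (Finset.mem_image_of_mem a (Finset.mem_coe.mp hx))))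
  refine ⟨IsLocalization.mk' _ y (⟨t', Submonoid.mem_powers t'⟩ : Submonoid.powers t'), ?_⟩
  have h1 : g (IsLocalization.mk' _ y (⟨t', Submonoid.mem_powers t'⟩ : Submonoid.powers t')) * f t' =
      f y := by
    rw [← hg t', ← map_mul, ← hg y]
    congr 1
    exact IsLocalization.mk'_spec (Localization.Away t') y _
  have h2 : f y = x * f t' := by
    change algebraMap S S' (φ y) = _
    rw [hy, ha x (Finset.mem_coe.mp hx), hf, Algebra.smul_def, mul_comm]
  exact hu.mul_right_cancel (h1.trans h2)

/-- Descent of the completion criterion at one maximal ideal. -/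
theorem isRegularHom_of_covered {A B : Type u} [CommRing A] [CommRing B] [IsLocalRing A]
    [IsLocalRing B] [IsNoetherianRing A] [IsNoetherianRing B] [Algebra A B]
    [IsLocalHom (algebraMap A B)] [Module.Flat A B] (hc : IsEtaleCovered A B)
    (hm : (maximalIdeal A).map (algebraMap A B) = maximalIdeal B)
    (hres : ∀ b : B, ∃ a : A, b - algebraMap A B a ∈ maximalIdeal B)
    (h : CAlg.IsRegularHom A (AdicCompletion (maximalIdeal A) A)) :
    CAlg.IsRegularHom B (AdicCompletion (maximalIdeal B) B) := by
  obtain ⟨e, he⟩ :=
    Groth.Agent.CurvesB.EtaleCompl.exists_completion_ringEquiv_of_flat (A := A) (B := B) hm hres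
  let e' : AdicCompletion (IsLocalRing.maximalIdeal A) A ≃ₐ[A]
      AdicCompletion (IsLocalRing.maximalIdeal B) B :=
    AlgEquiv.ofRingEquiv (f := e) (fun a => by
      rw [he a]
      rfl)
  have : IsScalarTower A B (AdicCompletion (IsLocalRing.maximalIdeal B) B) :=
    IsScalarTower.of_algebraMap_eq fun a => rfl
  rw [Groth.Agent.UnramA.RegFibBasic.isRegularHom_iff] at h ⊢
  rw [Groth.Agent.UnramA.RegFibCov.regFib_iff _ hc]
  exact ⟨inferInstance, Groth.Agent.UnramA.RegFibCov.regFib_congr e' h.2⟩

theorem isGRing_pair {A : Type u} [CommRing A] (hA : CAlg.IsGRing A) {I : Ideal A}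
    {B : Type u} [CommRing B] [Algebra A B] (hB : Hens2.IsPairHenselization A I B) :
    CAlg.IsGRing B := by
  have hNA : IsNoetherianRing A := hA.1
  obtain ⟨hNB, hflat, -⟩ := Groth.Agent.S1994.result A I B hB
  have hcov := covered hB
  have hquot := quot_bijective B hB
  rw [Groth.Agent.S2047.result]
  intro n hn
  have hnp : n.IsPrime := hn.isPrime
  set m := n.comap (algebraMap A B) with hmdef
  have hIn : I.map (algebraMap A B) ≤ n := by
    have := hB.1.jac
    refine this.trans ?_
    rw [Ideal.jacobson_bot]
    exact Ring.jacobson_le_of_isMaximal n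
  have hIm : I ≤ m := Ideal.map_le_iff_le_comap.mp hIn
  -- every element of `B` is congruent to an element of `A` modulo `I B`
  have hsurj : ∀ b : B, ∃ a : A, b - algebraMap A B a ∈ I.map (algebraMap A B) := by
    intro b
    obtain ⟨x, hx⟩ := hquot.2 (Ideal.Quotient.mk _ b)
    obtain ⟨a, rfl⟩ := Ideal.Quotient.mk_surjective x
    refine ⟨a, ?_⟩
    rw [Ideal.quotientMap_mk, eq_comm, Ideal.Quotient.eq] at hx
    exact hx
  have hmn : m.map (algebraMap A B) = n := by
    refine le_antisymm Ideal.map_comap_le fun b hb ↦ ?_
    obtain ⟨a, ha⟩ := hsurj b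
    have ha' : a ∈ m := by
      change algebraMap A B a ∈ n
      have := n.sub_mem hb (hIn ha)
      rwa [sub_sub_cancel] at this
    have h1 := add_mem (Ideal.map_mono hIm ha) (Ideal.mem_map_of_mem (algebraMap A B) ha')
    rwa [sub_add_cancel] at h1
  have hmp : m.IsPrime := Ideal.IsPrime.comap _
  let _ : Algebra (Localization.AtPrime m) (Localization.AtPrime n) :=
    (Localization.localRingHom m n (algebraMap A B) hmdef).toAlgebra
  have hst : IsScalarTower A (Localization.AtPrime m) (Localization.AtPrime n) := by
    refine IsScalarTower.of_algebraMap_eq fun a => ?_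
    rw [IsScalarTower.algebraMap_apply A B (Localization.AtPrime n)]
    exact (Localization.localRingHom_to_map m n (algebraMap A B) hmdef a).symm
  have hloc : IsLocalHom (algebraMap (Localization.AtPrime m) (Localization.AtPrime n)) :=
    Localization.isLocalHom_localRingHom _ _ _ hmdef
  have hNA' : IsNoetherianRing (Localization.AtPrime m) :=
    IsLocalization.isNoetherianRing m.primeCompl _ inferInstance
  have hNB' : IsNoetherianRing (Localization.AtPrime n) :=
    IsLocalization.isNoetherianRing n.primeCompl _ inferInstance
  have hflat' : Module.Flat (Localization.AtPrime m) (Localization.AtPrime n) := by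
    have : Module.Flat B (Localization.AtPrime n) := IsLocalization.flat _ n.primeCompl
    have : Module.Flat A (Localization.AtPrime n) := Module.Flat.trans A B _
    exact (Module.flat_iff_of_isLocalization (Localization.AtPrime m) m.primeCompl _).mpr inferInstance
  have hc' : IsEtaleCovered (Localization.AtPrime m) (Localization.AtPrime n) :=
    covered_tower (A := A) (covered_localization (S := B) n.primeCompl hcov)
  refine isRegularHom_of_covered hc' ?_ ?_ (hA.2 m)
  · rw [← Localization.AtPrime.map_eq_maximalIdeal, ← Localization.AtPrime.map_eq_maximalIdeal,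
      Ideal.map_map, ← IsScalarTower.algebraMap_eq, IsScalarTower.algebraMap_eq A B, ← Ideal.map_map,
      hmn]
  · intro b
    obtain ⟨x, s, rfl⟩ := IsLocalization.exists_mk'_eq n.primeCompl b
    obtain ⟨ax, hax⟩ := hsurj x
    obtain ⟨as, has⟩ := hsurj s
    have has' : as ∉ m := by
      intro h0
      have h1 := add_mem (hIn has) (show algebraMap A B as ∈ n from h0)
      rw [sub_add_cancel] at h1
      exact s.2 h1
    refine ⟨IsLocalization.mk' _ ax (⟨as, has'⟩ : m.primeCompl), ?_⟩
    have hu1 : IsUnit (algebraMap B (Localization.AtPrime n) s) :=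
      IsLocalization.map_units (Localization.AtPrime n) s
    have hu2 : IsUnit (algebraMap A (Localization.AtPrime n) as) := by
      rw [IsScalarTower.algebraMap_apply A (Localization.AtPrime m) (Localization.AtPrime n)]
      exact (IsLocalization.map_units (Localization.AtPrime m) (⟨as, has'⟩ : m.primeCompl)).map _
    have h1 : algebraMap B (Localization.AtPrime n) s *
        IsLocalization.mk' (Localization.AtPrime n) x s = algebraMap B _ x :=
      IsLocalization.mk'_spec' (Localization.AtPrime n) x s
    have h2 : algebraMap A (Localization.AtPrime n) as *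
        algebraMap (Localization.AtPrime m) (Localization.AtPrime n)
          (IsLocalization.mk' _ ax (⟨as, has'⟩ : m.primeCompl)) =
        algebraMap A (Localization.AtPrime n) ax := by
      rw [IsScalarTower.algebraMap_apply A (Localization.AtPrime m) (Localization.AtPrime n) as,
        ← map_mul, IsLocalization.mk'_spec' (Localization.AtPrime m) ax
          (⟨as, has'⟩ : m.primeCompl), ← IsScalarTower.algebraMap_apply]
    have h3 : x * algebraMap A B as - algebraMap A B ax * s ∈ n := by
      have e1 : x * algebraMap A B as - algebraMap A B ax * s =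
          (x - algebraMap A B ax) * algebraMap A B as -
            algebraMap A B ax * ((s : B) - algebraMap A B as) := by ring
      rw [e1]
      exact n.sub_mem (n.mul_mem_right _ (hIn hax)) (n.mul_mem_left _ (hIn has))
    have h4 : algebraMap B (Localization.AtPrime n) (x * algebraMap A B as - algebraMap A B ax * s) ∈
        maximalIdeal (Localization.AtPrime n) := by
      rw [← Localization.AtPrime.map_eq_maximalIdeal]
      exact Ideal.mem_map_of_mem _ h3
    have h5 : algebraMap B (Localization.AtPrime n) (x * algebraMap A B as - algebraMap A B ax * s) =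
        (algebraMap B (Localization.AtPrime n) s * algebraMap A (Localization.AtPrime n) as) *
        (IsLocalization.mk' (Localization.AtPrime n) x s -
          algebraMap (Localization.AtPrime m) (Localization.AtPrime n)
            (IsLocalization.mk' _ ax (⟨as, has'⟩ : m.primeCompl))) := by
      rw [map_sub, map_mul, map_mul, ← IsScalarTower.algebraMap_apply,
        ← IsScalarTower.algebraMap_apply, ← h1]
      linear_combination (algebraMap B (Localization.AtPrime n) s) * h2
    rw [h5] at h4
    exact (Ideal.unit_mul_mem_iff_mem _ (hu1.mul hu2)).mp h4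

end K70.PairHensG
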