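import Groth.Agent.SDiv.K472.RelSeq
import Groth.Agent.RegImm.K559.QuasiFlat
import Groth.Agent.EGA41.K104.QuasiReg
import Groth.Agent.Flat2D.SliceSeq
import Groth.Agent.CalgB.RegHom6

/-!
# Quasi-regular sequences with flat quotient modulo a locally nilpotent ideal

Key result `flat_quotient`: `A' → B'` flat of finite presentation, `I` an ideal of `A'` contained in all
primes, `f'` in `B'` with quasi-regular image in `B'/IB'` and `B'/(IB' + (f'))` flat over `A'/I`; then
`B'/(f')` is flat over `A'`.
-/

set_option autoImplicit false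
universe u

open TensorProduct IsLocalRing RingTheory.Sequence

namespace K70.QRegFlat

theorem isQuasiRegular_map_of_flat {A B : Type u} [CommRing A] [CommRing B] (φ : A →+* B) (hφ : φ.Flat) {c : ℕ}
    {f : Fin c → A} (hf : CAlgX.IsQuasiRegular f) : CAlgX.IsQuasiRegular (fun i => φ (f i)) := by
  let _ : Algebra A B := φ.toAlgebra
  have : Module.Flat A B := hφ
  exact K559.QuasiFlat.isQuasiRegular_of_flat hf

theorem isQuasiRegular_equiv {A B : Type u} [CommRing A] [CommRing B] (e : A ≃+* B) {c : ℕ} {f : Fin c → A}
    (hf : CAlgX.IsQuasiRegular f) : CAlgX.IsQuasiRegular (fun i => e (f i)) :=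
  isQuasiRegular_map_of_flat (e : A →+* B) (RingHom.Flat.of_bijective e.bijective) hf

section Fibre

variable {A B : Type u} [CommRing A] [CommRing B] [Algebra A B] [Algebra.FinitePresentation A B]
  (p : Ideal A) [p.IsPrime] (q : Ideal B) [q.IsPrime] [q.LiesOver p]
  [Algebra (Localization.AtPrime p) (Localization.AtPrime q)]
  [Localization.AtPrime.IsLiesOverAlgebra p q]

/-- The closed fibre of `A_p → B_q`, through `κ(p) ⊗[A] B_q`. -/
noncomputable def fibreEquiv : p.ResidueField ⊗[A] (Localization.AtPrime q) ≃+*
    Localization.AtPrime q ⧸ (maximalIdeal (Localization.AtPrime p)).map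
      (algebraMap (Localization.AtPrime p) (Localization.AtPrime q)) :=
  (IsLocalization.algebraTensorEquiv p.primeCompl (Localization.AtPrime p) p.ResidueField
    (Localization.AtPrime q)).symm.toRingEquiv.trans
  (Algebra.TensorProduct.quotIdealMapEquivQuotTensor (Localization.AtPrime q)
    (maximalIdeal (Localization.AtPrime p))).symm.toRingEquiv

theorem fibreEquiv_one_tmul (x : Localization.AtPrime q) : fibreEquiv p q (1 ⊗ₜ x) = Ideal.Quotient.mk _ x := by
  change (Algebra.TensorProduct.quotIdealMapEquivQuotTensor (Localization.AtPrime q)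
    (maximalIdeal (Localization.AtPrime p))).symm (1 ⊗ₜ x) = _
  rw [AlgEquiv.symm_apply_eq]
  rfl

theorem isWeaklyRegular_fibre {c : ℕ} (f : Fin c → B) (hf : ∀ i, f i ∈ q)
    (h : CAlgX.IsQuasiRegular (fun i => ((1 : p.ResidueField) ⊗ₜ[A] f i : p.ResidueField ⊗[A] B))) :
    IsWeaklyRegular (Localization.AtPrime q ⧸ (maximalIdeal (Localization.AtPrime p)).map
      (algebraMap (Localization.AtPrime p) (Localization.AtPrime q))) (List.ofFn f) := by
  set F := Localization.AtPrime q ⧸ (maximalIdeal (Localization.AtPrime p)).map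
      (algebraMap (Localization.AtPrime p) (Localization.AtPrime q)) with hF
  have hlocal : IsLocalHom (algebraMap (Localization.AtPrime p) (Localization.AtPrime q)) := by
    rw [Localization.AtPrime.IsLiesOverAlgebra.algebraMap_eq (p := p) (P := q)]
    infer_instance
  have hJ : (maximalIdeal (Localization.AtPrime p)).map
      (algebraMap (Localization.AtPrime p) (Localization.AtPrime q)) ≤ maximalIdeal (Localization.AtPrime q) :=
    ((local_hom_TFAE (algebraMap (Localization.AtPrime p) (Localization.AtPrime q))).out 0 2 rfl rfl).mp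
      inferInstance
  have hnt : Nontrivial F := Ideal.Quotient.nontrivial_iff.mpr fun h0 => by
    rw [h0, top_le_iff] at hJ
    exact Ideal.IsPrime.ne_top inferInstance hJ
  have hloc : IsLocalRing F := IsLocalRing.of_surjective' (Ideal.Quotient.mk _) Ideal.Quotient.mk_surjective
  have hft : Algebra.FiniteType A B := inferInstance
  have hess : Algebra.EssFiniteType A (Localization.AtPrime q) := by
    have : Algebra.EssFiniteType B (Localization.AtPrime q) := Algebra.EssFiniteType.of_isLocalization _ q.primeCompl
    exact Algebra.EssFiniteType.comp A B _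
  have hN1 : IsNoetherianRing (p.ResidueField ⊗[A] (Localization.AtPrime q)) :=
    Groth.Agent.CalgB.RegHom6.isNoetherianRing_of_essFiniteType p.ResidueField _
  have hN : IsNoetherianRing F := isNoetherianRing_of_ringEquiv _ (fibreEquiv p q)
  -- quasi-regularity in the fibre
  have h1 : CAlgX.IsQuasiRegular (fun i => algebraMap B F (f i)) := by
    have h2 := isQuasiRegular_map_of_flat
      (Algebra.TensorProduct.lTensor (S := A) p.ResidueField
        (IsScalarTower.toAlgHom A B (Localization.AtPrime q)) :
          p.ResidueField ⊗[A] B →+* p.ResidueField ⊗[A] (Localization.AtPrime q))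
      (RingHom.Flat.lTensor (S := A) p.ResidueField (f := IsScalarTower.toAlgHom A B (Localization.AtPrime q)) (by
        exact (RingHom.flat_algebraMap_iff (R := B) (S := Localization.AtPrime q)).mpr
          (IsLocalization.flat _ q.primeCompl))) h
    have h3 := isQuasiRegular_equiv (fibreEquiv p q) h2
    convert h3 using 2 with i
    change _ = fibreEquiv p q (Algebra.TensorProduct.lTensor (S := A) p.ResidueField
        (IsScalarTower.toAlgHom A B (Localization.AtPrime q)) (1 ⊗ₜ f i))
    have h5 : (Algebra.TensorProduct.lTensor (S := A) p.ResidueField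
        (IsScalarTower.toAlgHom A B (Localization.AtPrime q)) (1 ⊗ₜ f i)) =
        1 ⊗ₜ algebraMap B (Localization.AtPrime q) (f i) := rfl
    rw [h5, fibreEquiv_one_tmul]
    rfl
  have h4 := K104.QuasiReg.isWeaklyRegular_of_isQuasiRegular c _ (fun i => by
    rw [IsLocalRing.ringJacobson_eq_maximalIdeal]
    have h5 : algebraMap B (Localization.AtPrime q) (f i) ∈ maximalIdeal (Localization.AtPrime q) :=
      (IsLocalization.AtPrime.to_map_mem_maximal_iff _ q _).mpr (hf i)
    have hle : IsLocalHom (Ideal.Quotient.mk ((maximalIdeal (Localization.AtPrime p)).map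
      (algebraMap (Localization.AtPrime p) (Localization.AtPrime q)))) :=
      Function.Surjective.isLocalHom _ Ideal.Quotient.mk_surjective
    intro hu
    exact (mem_maximalIdeal _).mp h5 (isUnit_of_map_unit (Ideal.Quotient.mk ((maximalIdeal (Localization.AtPrime p)).map
      (algebraMap (Localization.AtPrime p) (Localization.AtPrime q)))) _ hu)) h1
  have h6 : List.ofFn (fun i => algebraMap B F (f i)) = (List.ofFn f).map (algebraMap B F) := by
    rw [List.map_ofFn]
    rfl
  rw [h6] at h4
  exact (isWeaklyRegular_map_algebraMap_iff F F (List.ofFn f)).mp h4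

end Fibre

/-- If the sequence `f` is quasi-regular in all fibres of the flat finitely presented `A → B`, then
`B/(f)` is flat over `A`. -/
theorem flat_quotient_of_fibres {A B : Type u} [CommRing A] [CommRing B] [Algebra A B] [Module.Flat A B]
    [Algebra.FinitePresentation A B] {c : ℕ} (f : Fin c → B)
    (H : ∀ (p : Ideal A) [p.IsPrime],
      CAlgX.IsQuasiRegular (fun i => ((1 : p.ResidueField) ⊗ₜ[A] f i : p.ResidueField ⊗[A] B))) :
    Module.Flat A (B ⧸ Ideal.span (Set.range f)) := by
  have hspan : Ideal.span (Set.range f) = Ideal.ofList (List.ofFn f) := by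
    rw [Ideal.ofList]
    congr 1
    ext x
    simp [List.mem_ofFn]
  refine Module.flat_of_isLocalized_maximal (R := A) (S := B) (B ⧸ Ideal.span (Set.range f))
    (fun q _ ↦ Localization.AtPrime q ⧸
      (Submodule.localized' (Localization.AtPrime q) q.primeCompl
        (Algebra.linearMap B (Localization.AtPrime q)) (Ideal.span (Set.range f))))
    (fun q _ ↦ Submodule.toLocalizedQuotient' (Localization.AtPrime q) q.primeCompl
        (Algebra.linearMap B (Localization.AtPrime q)) (Ideal.span (Set.range f))) ?_
  intro q _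
  rw [Ideal.localized'_eq_map]
  by_cases hfq : Ideal.span (Set.range f) ≤ q
  · let p : Ideal A := q.under A
    have hp : p.IsPrime := inferInstance
    have hqp : q.LiesOver p := ⟨rfl⟩
    let _ := Localization.AtPrime.algebraOfLiesOver p q
    have hlocal : IsLocalHom (algebraMap (Localization.AtPrime p) (Localization.AtPrime q)) := by
      rw [Localization.AtPrime.IsLiesOverAlgebra.algebraMap_eq (p := p) (P := q)]
      infer_instance
    have hfq' : ∀ i, f i ∈ q := fun i ↦ hfq (Ideal.subset_span ⟨i, rfl⟩)
    have hflat1 : Module.Flat A (Localization.AtPrime q) := inferInstance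
    have hflat2 : Module.Flat (Localization.AtPrime p) (Localization.AtPrime q) :=
      (Module.flat_iff_of_isLocalization (Localization.AtPrime p) p.primeCompl (Localization.AtPrime q)).mpr
        inferInstance
    have hreg := isWeaklyRegular_fibre p q f hfq' (H p)
    obtain ⟨g, hg, hB⟩ := Groth.Agent.Flat2D.SliceSeq.exists_away_list (R := A) (Rp := Localization.AtPrime p) p
      (List.ofFn f).length B (Localization.AtPrime q) q rfl (List.ofFn f) rfl (by
        intro r hr
        rw [List.mem_ofFn] at hr
        obtain ⟨i, rfl⟩ := hr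
        exact hfq' i) hreg
    have h1 := (hB (Localization.AtPrime q) (IsLocalization.map_units _ (⟨g, hg⟩ : q.primeCompl))).2
    rw [hspan]
    exact h1
  · have hsub : Subsingleton (Localization.AtPrime q ⧸ (Ideal.span (Set.range f)).map
        (algebraMap B (Localization.AtPrime q))) := by
      rw [Ideal.Quotient.subsingleton_iff]
      obtain ⟨x, hx, hxq⟩ := Set.not_subset.mp hfq
      exact Ideal.eq_top_of_isUnit_mem _ (Ideal.mem_map_of_mem _ hx)
        (IsLocalization.map_units _ (⟨x, hxq⟩ : q.primeCompl))
    infer_instance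

/-- Quasi-regularity in the fibres from quasi-regularity modulo an ideal of the base contained in the prime. -/
theorem isQuasiRegular_fibre_of_quotient {A B : Type u} [CommRing A] [CommRing B] [Algebra A B] (I : Ideal A)
    {c : ℕ} (f : Fin c → B)
    (hq : CAlgX.IsQuasiRegular (fun i => Ideal.Quotient.mk (Ideal.map (algebraMap A B) I) (f i)))
    (hflat : Module.Flat (A ⧸ I)
      ((B ⧸ Ideal.map (algebraMap A B) I) ⧸
        Ideal.span (Set.range (fun i => Ideal.Quotient.mk (Ideal.map (algebraMap A B) I) (f i)))))
    (K : Type u) [CommRing K] [Algebra A K] (hI : ∀ x ∈ I, algebraMap A K x = 0) :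
    CAlgX.IsQuasiRegular (fun i => ((1 : K) ⊗ₜ[A] f i : K ⊗[A] B)) := by
  let _ : Algebra (A ⧸ I) K := (Ideal.Quotient.lift I (algebraMap A K) hI).toAlgebra
  have : IsScalarTower A (A ⧸ I) K := .of_algebraMap_eq fun x ↦ rfl
  have h1 := K472.RelSeq.isQuasiRegular_baseChange (R := A ⧸ I)
    (fun i => Ideal.Quotient.mk (Ideal.map (algebraMap A B) I) (f i)) K hflat hq
  let e : K ⊗[A ⧸ I] (B ⧸ Ideal.map (algebraMap A B) I) ≃+* K ⊗[A] B :=
    (Algebra.TensorProduct.congr (AlgEquiv.refl (R := A ⧸ I) (A₁ := K))
      (Algebra.TensorProduct.quotIdealMapEquivQuotTensor B I)).toRingEquiv.trans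
    (Algebra.TensorProduct.cancelBaseChange A (A ⧸ I) (A ⧸ I) K B).toRingEquiv
  have he : ∀ b : B, e (1 ⊗ₜ Ideal.Quotient.mk _ b) = 1 ⊗ₜ b := by
    intro b
    change (Algebra.TensorProduct.cancelBaseChange A (A ⧸ I) (A ⧸ I) K B)
      ((1 : K) ⊗ₜ[A ⧸ I] ((1 : A ⧸ I) ⊗ₜ[A] b)) = _
    rw [Algebra.TensorProduct.cancelBaseChange_tmul, one_smul]
  have h2 := isQuasiRegular_equiv e h1
  simp only [he] at h2
  exact h2

end K70.QRegFlat
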