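import Mathlib.RingTheory.Flat.EquationalCriterion
import Mathlib.RingTheory.Flat.TorsionFree
import Mathlib.RingTheory.MvPolynomial.Localization
import Mathlib.Algebra.Module.LocalizedModule.Int
import Mathlib.RingTheory.Localization.Integer
import Mathlib.RingTheory.Localization.BaseChange
import Mathlib.RingTheory.FinitePresentation
import Mathlib.RingTheory.Valuation.ValuationRing
import Groth.Agent.S0406

/-!
# Flatness and finite presentation over a semi-valuation ring

`O` is a ring with a prime ideal `𝔪` such that every element of `𝔪` is divisible (in `𝔪`) by every element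
outside `𝔪`, such elements are nonzerodivisors, and `O ⧸ 𝔪` is a valuation ring; `A` is the localization
of `O` at `𝔪`.
* `flat_quotient`: `C ⧸ 𝔪 C` is flat over `O ⧸ 𝔪` if `C` has no torsion.
* `flat`: `C` is flat over `O` if moreover `A ⊗ C` is flat over `A`.
* `finitePresentation`: if moreover `C` is of finite type over `O` and `A ⊗ C` is of finite presentation over
  `A` then `C` is of finite presentation over `O`.
-/

set_option autoImplicit false
universe u

open TensorProduct

namespace K70.SemiVal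

/-- Equational criterion for a system of relations. -/
theorem exists_of_system {R M : Type*} [CommRing R] [AddCommGroup M] [Module R M] [Module.Flat R M]
    {ι κ : Type*} [Fintype ι] [Fintype κ] (g : κ → ι → R) (x : ι → M)
    (h : ∀ k, ∑ i, g k i • x i = 0) :
    ∃ (n : ℕ) (a : ι → Fin n → R) (z : Fin n → M), (∀ i, x i = ∑ j, a i j • z j) ∧
      ∀ k j, ∑ i, g k i * a i j = 0 := by
  classical
  have h0 : Fintype.linearCombination R x ∘ₗ Fintype.linearCombination R g = 0 := by
    apply LinearMap.pi_ext'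
    intro k
    ext
    simp only [LinearMap.comp_apply, LinearMap.single_apply, Fintype.linearCombination_apply_single,
      one_smul, LinearMap.zero_apply]
    rw [Fintype.linearCombination_apply]
    exact h k
  obtain ⟨n, a, y, hy, ha⟩ := Module.Flat.exists_factorization_of_comp_eq_zero_of_free h0
  refine ⟨n, fun i j ↦ a (Pi.single i 1) j, fun j ↦ y (Finsupp.single j 1), fun i ↦ ?_,
    fun k j ↦ ?_⟩
  · have h1 := LinearMap.congr_fun hy (Pi.single i 1)
    rw [Fintype.linearCombination_apply_single, one_smul, LinearMap.comp_apply] at h1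
    rw [h1]
    simp_rw [← map_smul, ← map_sum, Finsupp.smul_single, smul_eq_mul, mul_one]
    congr 1
    exact (Finsupp.univ_sum_single _).symm
  · have h1 := LinearMap.congr_fun ha (Pi.single k 1)
    rw [LinearMap.comp_apply, Fintype.linearCombination_apply_single, one_smul] at h1
    have h2 : g k = ∑ i, g k i • (Pi.single i (1 : R) : ι → R) := by
      ext i
      simp [Finset.sum_apply, Pi.single_apply]
    rw [h2, map_sum] at h1
    have h3 := DFunLike.congr_fun h1 j
    simp only [map_smul, Finsupp.finsetSum_apply, Finsupp.smul_apply, smul_eq_mul,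
      LinearMap.zero_apply, Finsupp.zero_apply] at h3
    exact h3

section Quot

variable {O C : Type u} [CommRing O] {𝔪 : Ideal O} [CommRing C] [Algebra O C]
  (hdiv : ∀ s ∉ 𝔪, ∀ m ∈ 𝔪, ∃ m' ∈ 𝔪, m = s * m')
  (hC : ∀ s ∉ 𝔪, ∀ c : C, s • c = 0 → c = 0)

include hdiv

theorem exists_smul_eq {s : O} (hs : s ∉ 𝔪) {c : C} (hc : c ∈ 𝔪.map (algebraMap O C)) :
    ∃ d ∈ 𝔪.map (algebraMap O C), c = s • d := by
  refine Submodule.span_induction ?_ ?_ ?_ ?_ hc
  · rintro _ ⟨m, hm, rfl⟩
    obtain ⟨m', hm', rfl⟩ := hdiv s hs m hm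
    refine ⟨algebraMap O C m', Ideal.mem_map_of_mem _ hm', ?_⟩
    rw [map_mul, Algebra.smul_def]
  · exact ⟨0, Ideal.zero_mem _, (smul_zero s).symm⟩
  · rintro x y _ _ ⟨d, hd, rfl⟩ ⟨e, he, rfl⟩
    exact ⟨d + e, Ideal.add_mem _ hd he, (smul_add _ _ _).symm⟩
  · rintro a x _ ⟨d, hd, rfl⟩
    exact ⟨a • d, Ideal.mul_mem_left _ _ hd, smul_comm _ _ _⟩

include hC

theorem mem_of_smul_mem {s : O} (hs : s ∉ 𝔪) {c : C} (h : s • c ∈ 𝔪.map (algebraMap O C)) :
    c ∈ 𝔪.map (algebraMap O C) := by
  obtain ⟨d, hd, hd'⟩ := exists_smul_eq hdiv hs h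
  have h1 : s • (c - d) = 0 := by rw [smul_sub, hd', sub_self]
  rw [sub_eq_zero.mp (hC s hs _ h1)]
  exact hd

theorem flat_quotient [𝔪.IsPrime] [ValuationRing (O ⧸ 𝔪)] :
    Module.Flat (O ⧸ 𝔪) (C ⧸ 𝔪.map (algebraMap O C)) := by
  rw [Module.Flat.flat_iff_torsion_eq_bot_of_isBezout, eq_bot_iff]
  rintro x ⟨⟨a, ha⟩, hx⟩
  obtain ⟨s, rfl⟩ := Ideal.Quotient.mk_surjective a
  obtain ⟨c, rfl⟩ := Ideal.Quotient.mk_surjective x
  have hs : s ∉ 𝔪 := fun hs ↦ nonZeroDivisors.ne_zero ha (Ideal.Quotient.eq_zero_iff_mem.mpr hs)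
  rw [Submodule.mem_bot, Ideal.Quotient.eq_zero_iff_mem]
  apply mem_of_smul_mem hdiv hC hs
  rw [← Ideal.Quotient.eq_zero_iff_mem, Algebra.smul_def, map_mul]
  change (Ideal.Quotient.mk 𝔪 s) • (Ideal.Quotient.mk (𝔪.map (algebraMap O C)) c) = 0 at hx
  rw [Algebra.smul_def] at hx
  exact hx

end Quot

theorem isTrivialRelation_of {R M : Type*} [CommRing R] [AddCommGroup M] [Module R M]
    {ι κ : Type*} [Fintype ι] [Fintype κ] {f : ι → R} {x : ι → M} (a : ι → κ → R) (y : κ → M)
    (h1 : ∀ i, x i = ∑ j, a i j • y j) (h2 : ∀ j, ∑ i, f i * a i j = 0) :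
    Module.IsTrivialRelation f x := by
  refine ⟨Fintype.card κ, fun i j ↦ a i ((Fintype.equivFin κ).symm j),
    fun j ↦ y ((Fintype.equivFin κ).symm j), fun i ↦ ?_, fun j ↦ h2 _⟩
  rw [h1 i]
  exact ((Fintype.equivFin κ).symm.sum_comp (fun j ↦ a i j • y j)).symm

section Flat

variable {O A C : Type u} [CommRing O] [CommRing A] [Algebra O A] {𝔪 : Ideal O} [𝔪.IsPrime]
  [CommRing C] [Algebra O C] [IsLocalization 𝔪.primeCompl A]
  (hdiv : ∀ s ∉ 𝔪, ∀ m ∈ 𝔪, ∃ m' ∈ 𝔪, m = s * m')
  (hO : ∀ s ∉ 𝔪, ∀ x : O, s * x = 0 → x = 0)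
  (hC : ∀ s ∉ 𝔪, ∀ c : C, s • c = 0 → c = 0)

theorem tmul_injective (hC : ∀ s ∉ 𝔪, ∀ c : C, s • c = 0 → c = 0) {c d : C}
    (h : (1 : A) ⊗ₜ[O] c = 1 ⊗ₜ d) : c = d := by
  have : IsLocalizedModule 𝔪.primeCompl (TensorProduct.mk O A C 1) :=
    (isLocalizedModule_iff_isBaseChange 𝔪.primeCompl A _).mpr (TensorProduct.isBaseChange O C A)
  obtain ⟨s, hs⟩ := (IsLocalizedModule.eq_iff_exists 𝔪.primeCompl (TensorProduct.mk O A C 1)).mp h
  have h1 : (s : O) • (c - d) = 0 := by
    rw [smul_sub]
    exact sub_eq_zero.mpr hs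
  exact sub_eq_zero.mp (hC s s.2 _ h1)

include hdiv hO hC

theorem flat [ValuationRing (O ⧸ 𝔪)] [Module.Flat A (A ⊗[O] C)] : Module.Flat O C := by
  classical
  have hinj : Function.Injective (algebraMap O A) := by
    rw [injective_iff_map_eq_zero]
    intro x hx
    obtain ⟨s, hs⟩ := (IsLocalization.map_eq_zero_iff 𝔪.primeCompl A x).mp hx
    exact hO s s.2 x hs
  have hloc : IsLocalizedModule 𝔪.primeCompl (TensorProduct.mk O A C 1) :=
    (isLocalizedModule_iff_isBaseChange 𝔪.primeCompl A _).mpr (TensorProduct.isBaseChange O C A)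
  have hfl := flat_quotient hdiv hC
  refine Module.Flat.of_forall_isTrivialRelation fun {l f x} hfx ↦ ?_
  -- trivialize over `A`
  have h1 : ∑ i, algebraMap O A (f i) • ((1 : A) ⊗ₜ[O] x i) = 0 := by
    have h2 : ∀ i, algebraMap O A (f i) • ((1 : A) ⊗ₜ[O] x i) = (1 : A) ⊗ₜ[O] (f i • x i) := by
      intro i
      rw [algebraMap_smul, ← TensorProduct.tmul_smul]
    simp_rw [h2]
    rw [← TensorProduct.tmul_sum, hfx, TensorProduct.tmul_zero]
  obtain ⟨k, a, y, hx, ha⟩ := Module.Flat.isTrivialRelation_of_sum_smul_eq_zero h1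
  replace hx : ∀ i, (1 : A) ⊗ₜ[O] x i = ∑ j, a i j • y j := hx
  replace ha : ∀ j, ∑ i, algebraMap O A (f i) * a i j = 0 := ha
  obtain ⟨s, hs⟩ := IsLocalization.exist_integer_multiples_of_finite 𝔪.primeCompl
    (fun p : Fin l × Fin k ↦ a p.1 p.2)
  obtain ⟨t, ht⟩ := IsLocalizedModule.exist_integer_multiples_of_finite 𝔪.primeCompl
    (TensorProduct.mk O A C 1) y
  choose α hα using hs
  choose y' hy' using ht
  have hα' : ∀ i j, algebraMap O A (α (i, j)) = algebraMap O A s * a i j := fun i j ↦ by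
    rw [hα (i, j), Algebra.smul_def]
  have hy'' : ∀ j, (1 : A) ⊗ₜ[O] y' j = (t : O) • y j := fun j ↦ hy' j
  obtain ⟨u, hu, hus⟩ : ∃ u : O, u ∉ 𝔪 ∧ u = s * t :=
    ⟨s * t, (𝔪.primeCompl.mul_mem s.2 t.2 : (s : O) * t ∈ 𝔪.primeCompl), rfl⟩
  have hux : ∀ i, u • x i = ∑ j, α (i, j) • y' j := by
    intro i
    apply tmul_injective (A := A) hC
    rw [TensorProduct.tmul_smul, hx i, Finset.smul_sum, TensorProduct.tmul_sum]
    refine Finset.sum_congr rfl fun j _ ↦ ?_
    rw [TensorProduct.tmul_smul, hy'', ← algebraMap_smul A (α (i, j)), hα', hus,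
      ← algebraMap_smul A ((s : O) * t), ← algebraMap_smul A (t : O), smul_smul, smul_smul, map_mul]
    congr 1
    ring
  have hfα : ∀ j, ∑ i, f i * α (i, j) = 0 := by
    intro j
    apply hinj
    rw [map_sum, map_zero]
    have h2 : ∀ i, algebraMap O A (f i * α (i, j)) =
        algebraMap O A s * (algebraMap O A (f i) * a i j) := by
      intro i
      rw [map_mul, hα']
      ring
    simp_rw [h2]
    rw [← Finset.mul_sum, ha j, mul_zero]
  -- trivialize modulo `𝔪`
  let q : C →+* C ⧸ 𝔪.map (algebraMap O C) := Ideal.Quotient.mk _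
  have hq : ∀ (b : O) (c : C), q (b • c) = Ideal.Quotient.mk 𝔪 b • q c := by
    intro b c
    rw [Algebra.smul_def, Algebra.smul_def, map_mul]
    rfl
  obtain ⟨n, b, z, hz, hb⟩ := exists_of_system (R := O ⧸ 𝔪) (M := C ⧸ 𝔪.map (algebraMap O C))
    (ι := Fin l ⊕ Fin k) (κ := Fin l)
    (fun i ↦ Sum.elim (fun i' ↦ if i = i' then Ideal.Quotient.mk 𝔪 u else 0)
      (fun j ↦ - Ideal.Quotient.mk 𝔪 (α (i, j)))) (Sum.elim (fun i ↦ q (x i)) (fun j ↦ q (y' j)))
    (by
      intro i
      rw [Fintype.sum_sum_type]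
      simp only [Sum.elim_inl, Sum.elim_inr, ite_smul, zero_smul, Finset.sum_ite_eq,
        Finset.mem_univ, if_true, neg_smul, Finset.sum_neg_distrib]
      rw [← hq, hux i, map_sum]
      simp_rw [← hq]
      rw [add_neg_cancel])
  choose b' hb' using fun i j ↦ Ideal.Quotient.mk_surjective (b i j)
  choose ζ hζ using fun j ↦ Ideal.Quotient.mk_surjective (z j)
  have hw : ∀ j, ∃ w : C, y' j = ∑ p, b' (Sum.inr j) p • ζ p + u • w := by
    intro j
    have h2 : y' j - ∑ p, b' (Sum.inr j) p • ζ p ∈ 𝔪.map (algebraMap O C) := by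
      rw [← Ideal.Quotient.eq_zero_iff_mem]
      change q _ = 0
      rw [map_sub, map_sum]
      simp_rw [hq, hb']
      have h3 := hz (Sum.inr j)
      simp only [Sum.elim_inr] at h3
      rw [h3, sub_eq_zero]
      refine Finset.sum_congr rfl fun p _ ↦ ?_
      rw [← hζ p]
    obtain ⟨w, -, hw⟩ := exists_smul_eq hdiv hu h2
    exact ⟨w, by rw [← hw]; abel⟩
  choose w hw using hw
  have hd : ∀ i p, ∃ d : O, ∑ j, α (i, j) * b' (Sum.inr j) p = u * d := by
    intro i p
    have h2 : u * b' (Sum.inl i) p - ∑ j, α (i, j) * b' (Sum.inr j) p ∈ 𝔪 := by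
      rw [← Ideal.Quotient.eq_zero_iff_mem, map_sub, map_mul, map_sum]
      simp_rw [map_mul, hb']
      have h3 := hb i p
      rw [Fintype.sum_sum_type] at h3
      simp only [Sum.elim_inl, Sum.elim_inr, ite_mul, zero_mul, Finset.sum_ite_eq,
        Finset.mem_univ, if_true, neg_mul, Finset.sum_neg_distrib] at h3
      rw [sub_eq_add_neg]
      exact h3
    obtain ⟨m', -, hm'⟩ := hdiv u hu _ h2
    exact ⟨b' (Sum.inl i) p - m', by rw [mul_sub, ← hm']; ring⟩
  choose d hd using hd
  refine isTrivialRelation_of (κ := Fin n ⊕ Fin k)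
    (fun i ↦ Sum.elim (fun p ↦ d i p) (fun j ↦ α (i, j))) (Sum.elim ζ w) (fun i ↦ ?_) ?_
  · have h2 : u • (x i - ∑ j, Sum.elim (fun p ↦ d i p) (fun j ↦ α (i, j)) j • Sum.elim ζ w j) = 0 := by
      rw [smul_sub, sub_eq_zero, hux i, Fintype.sum_sum_type, smul_add, Finset.smul_sum,
        Finset.smul_sum]
      simp only [Sum.elim_inl, Sum.elim_inr, smul_smul, ← hd]
      simp_rw [Finset.sum_smul]
      rw [Finset.sum_comm, ← Finset.sum_add_distrib]
      refine Finset.sum_congr rfl fun j _ ↦ ?_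
      rw [hw j, smul_add, Finset.smul_sum]
      simp_rw [smul_smul]
      rw [mul_comm u]
    exact sub_eq_zero.mp (hC u hu _ h2)
  · rintro (p | j)
    · simp only [Sum.elim_inl]
      apply hO u hu
      rw [Finset.mul_sum]
      have h2 : ∀ i, u * (f i * d i p) = ∑ j, b' (Sum.inr j) p * (f i * α (i, j)) := by
        intro i
        rw [mul_left_comm, ← hd, Finset.mul_sum]
        exact Finset.sum_congr rfl fun j _ ↦ by ring
      simp_rw [h2]
      rw [Finset.sum_comm]
      simp_rw [← Finset.mul_sum, hfα, mul_zero]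
      simp
    · simp only [Sum.elim_inr]
      exact hfα j

end Flat

theorem exists_fg_le {P Q : Type*} [CommRing P] [CommRing Q] (φ : P →+* Q) (J : Ideal P)
    (h : (J.map φ).FG) : ∃ J' : Ideal P, J' ≤ J ∧ J'.FG ∧ J'.map φ = J.map φ := by
  classical
  obtain ⟨s, hs, hs'⟩ := (Submodule.fg_span_iff_fg_span_finset_subset _).mp h
  obtain ⟨t, ht, rfl⟩ := Finset.subset_set_image_iff.mp hs
  refine ⟨Ideal.span t, Ideal.span_le.mpr ht, ⟨t, rfl⟩, ?_⟩
  rw [Ideal.map_span, ← Finset.coe_image]
  exact hs'.symm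

section FP

open MvPolynomial

/-- If `C = O[X] / J` is flat then `𝔪 O[X] ∩ J = 𝔪 J`. -/
theorem mem_map_mul {O D : Type u} [CommRing O] [CommRing D] [Algebra O D] [Module.Flat O D]
    (𝔪 : Ideal O) {n : ℕ} (f : MvPolynomial (Fin n) O →ₐ[O] D) (hf : Function.Surjective f)
    {h : MvPolynomial (Fin n) O} (h1 : ∀ α, coeff α h ∈ 𝔪) (h2 : f h = 0) :
    h ∈ 𝔪.map (C : O →+* MvPolynomial (Fin n) O) * RingHom.ker f := by
  classical
  have h3 : h = ∑ α : h.support, C (coeff (α : Fin n →₀ ℕ) h) * monomial (α : Fin n →₀ ℕ) 1 := by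
    conv_lhs => rw [h.as_sum, ← Finset.sum_coe_sort]
    refine Finset.sum_congr rfl fun α _ ↦ ?_
    rw [C_mul_monomial, mul_one]
  have h4 : ∑ α : h.support, coeff (α : Fin n →₀ ℕ) h • f (monomial (α : Fin n →₀ ℕ) 1) = 0 := by
    rw [← h2]
    conv_rhs => rw [h3]
    rw [map_sum]
    refine Finset.sum_congr rfl fun α _ ↦ ?_
    rw [map_mul, Algebra.smul_def]
    congr 1
    exact (f.commutes _).symm
  obtain ⟨k, a, y, hy, ha⟩ := Module.Flat.isTrivialRelation_of_sum_smul_eq_zero h4
  replace hy : ∀ α : h.support, f (monomial (α : Fin n →₀ ℕ) 1) = ∑ j, a α j • y j := hy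
  replace ha : ∀ j, ∑ α : h.support, coeff (α : Fin n →₀ ℕ) h * a α j = 0 := ha
  choose Y hY using fun j ↦ hf (y j)
  have h5 : h = ∑ α : h.support, C (coeff (α : Fin n →₀ ℕ) h) *
      (monomial (α : Fin n →₀ ℕ) 1 - ∑ j, C (a α j) * Y j) := by
    conv_lhs => rw [h3]
    simp_rw [mul_sub]
    rw [Finset.sum_sub_distrib]
    have h6 : ∑ α : h.support, C (coeff (α : Fin n →₀ ℕ) h) * ∑ j, C (a α j) * Y j = 0 := by
      simp_rw [Finset.mul_sum]
      rw [Finset.sum_comm]
      refine Finset.sum_eq_zero fun j _ ↦ ?_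
      have h7 : ∀ α : h.support, C (coeff (α : Fin n →₀ ℕ) h) * (C (a α j) * Y j) =
          C (coeff (α : Fin n →₀ ℕ) h * a α j) * Y j := fun α ↦ by
        rw [map_mul, mul_assoc]
      simp_rw [h7]
      rw [← Finset.sum_mul, ← map_sum, ha j, map_zero, zero_mul]
    rw [h6, sub_zero]
  rw [h5]
  refine Ideal.sum_mem _ fun α _ ↦ Ideal.mul_mem_mul (Ideal.mem_map_of_mem _ (h1 α)) ?_
  rw [RingHom.mem_ker, map_sub, hy α, map_sum, sub_eq_zero]
  refine Finset.sum_congr rfl fun j _ ↦ ?_
  rw [map_mul, hY, Algebra.smul_def]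
  congr 1
  exact (f.commutes _).symm

attribute [local instance] algebraMvPolynomial

theorem finitePresentation {O A C : Type u} [CommRing O] [CommRing A] [Algebra O A] {𝔪 : Ideal O}
    [𝔪.IsPrime] [CommRing C] [Algebra O C] [IsLocalization 𝔪.primeCompl A]
    (hdiv : ∀ s ∉ 𝔪, ∀ m ∈ 𝔪, ∃ m' ∈ 𝔪, m = s * m')
    (hO : ∀ s ∉ 𝔪, ∀ x : O, s * x = 0 → x = 0)
    (hC : ∀ s ∉ 𝔪, ∀ c : C, s • c = 0 → c = 0) [ValuationRing (O ⧸ 𝔪)] [Algebra.FiniteType O C]
    [Module.Flat O C] [Algebra.FinitePresentation A (A ⊗[O] C)] : Algebra.FinitePresentation O C := by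
  classical
  have hinj : Function.Injective (algebraMap O A) := by
    rw [injective_iff_map_eq_zero]
    intro x hx
    obtain ⟨s, hs⟩ := (IsLocalization.map_eq_zero_iff 𝔪.primeCompl A x).mp hx
    exact hO s s.2 x hs
  obtain ⟨n, f, hf⟩ := Algebra.FiniteType.iff_quotient_mvPolynomial''.mp
    (inferInstance : Algebra.FiniteType O C)
  have hker : (RingHom.ker f).FG := by
    let P := MvPolynomial (Fin n) O
    -- the localization
    let φA : P →+* MvPolynomial (Fin n) A := MvPolynomial.map (algebraMap O A)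
    let fA : MvPolynomial (Fin n) A →ₐ[A] A ⊗[O] C := aeval fun i ↦ 1 ⊗ₜ f (X i)
    have hfA : ∀ p : P, fA (φA p) = 1 ⊗ₜ f p := by
      have : fA.toRingHom.comp φA =
          (Algebra.TensorProduct.includeRight (R := O) (A := A) (B := C)).toRingHom.comp
            f.toRingHom := by
        apply MvPolynomial.ringHom_ext
        · intro a
          change fA (MvPolynomial.map (algebraMap O A) (MvPolynomial.C a)) = 1 ⊗ₜ f (MvPolynomial.C a)
          rw [MvPolynomial.map_C, aeval_C]
          have h1 : f (MvPolynomial.C a) = algebraMap O C a := f.commutes a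
          rw [h1, ← IsScalarTower.algebraMap_apply O A (A ⊗[O] C)]
          exact ((Algebra.TensorProduct.includeRight (R := O) (A := A) (B := C)).commutes a).symm
        · intro i
          change fA (MvPolynomial.map (algebraMap O A) (X i)) = 1 ⊗ₜ f (X i)
          rw [MvPolynomial.map_X, aeval_X]
      exact fun p ↦ RingHom.congr_fun this p
    have hfAs : Function.Surjective fA := by
      intro x
      induction x with
      | zero => exact ⟨0, map_zero _⟩
      | add x y hx hy =>
        obtain ⟨p, rfl⟩ := hx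
        obtain ⟨q, rfl⟩ := hy
        exact ⟨p + q, map_add _ _ _⟩
      | tmul a c =>
        obtain ⟨p, rfl⟩ := hf c
        refine ⟨a • φA p, ?_⟩
        rw [map_smul, hfA, TensorProduct.smul_tmul', smul_eq_mul, mul_one]
    have hkerA : (RingHom.ker fA).FG :=
      Algebra.FinitePresentation.ker_fG_of_surjective fA hfAs
    have hlocP : IsLocalization (𝔪.primeCompl.map (MvPolynomial.C (σ := Fin n)))
        (MvPolynomial (Fin n) A) := MvPolynomial.isLocalization _ _
    have hkerA' : (RingHom.ker f).map φA = RingHom.ker fA := by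
      apply le_antisymm
      · rw [Ideal.map_le_iff_le_comap]
        intro p hp
        rw [RingHom.mem_ker] at hp
        rw [Ideal.mem_comap, RingHom.mem_ker, hfA, hp, TensorProduct.tmul_zero]
      · intro F hF
        obtain ⟨⟨G, ⟨_, s, hs, rfl⟩⟩, hG⟩ := IsLocalization.surj
          (𝔪.primeCompl.map (MvPolynomial.C (σ := Fin n))) F
        change F * φA (MvPolynomial.C s) = φA G at hG
        have h1 : f G = 0 := by
          apply tmul_injective (A := A) hC
          rw [← hfA, ← hG, map_mul, (RingHom.mem_ker.mp hF), zero_mul, TensorProduct.tmul_zero]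
        have h2 : IsUnit (φA (MvPolynomial.C s)) :=
          IsLocalization.map_units (MvPolynomial (Fin n) A)
            (⟨_, s, hs, rfl⟩ : 𝔪.primeCompl.map (MvPolynomial.C (σ := Fin n)))
        rw [← Ideal.mul_unit_mem_iff_mem _ h2, hG]
        exact Ideal.mem_map_of_mem _ h1
    obtain ⟨J₁, hJ₁, hJ₁fg, hJ₁map⟩ := exists_fg_le φA (RingHom.ker f) (by rw [hkerA']; exact hkerA)
    -- the reduction modulo `𝔪`
    let φR : P →+* MvPolynomial (Fin n) (O ⧸ 𝔪) := MvPolynomial.map (Ideal.Quotient.mk 𝔪)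
    let C' := C ⧸ 𝔪.map (algebraMap O C)
    let q : C →+* C' := Ideal.Quotient.mk _
    let fR : MvPolynomial (Fin n) (O ⧸ 𝔪) →ₐ[O ⧸ 𝔪] C' := aeval fun i ↦ q (f (X i))
    have hfR : ∀ p : P, fR (φR p) = q (f p) := by
      have : fR.toRingHom.comp φR = q.comp f.toRingHom := by
        apply MvPolynomial.ringHom_ext
        · intro a
          change fR (MvPolynomial.map (Ideal.Quotient.mk 𝔪) (MvPolynomial.C a)) =
            q (f (MvPolynomial.C a))
          rw [MvPolynomial.map_C, aeval_C]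
          have h1 : f (MvPolynomial.C a) = algebraMap O C a := f.commutes a
          rw [h1]
          rfl
        · intro i
          change fR (MvPolynomial.map (Ideal.Quotient.mk 𝔪) (X i)) = q (f (X i))
          rw [MvPolynomial.map_X, aeval_X]
      exact fun p ↦ RingHom.congr_fun this p
    have hφRs : Function.Surjective φR := MvPolynomial.map_surjective _ Ideal.Quotient.mk_surjective
    have hfRs : Function.Surjective fR := by
      intro x
      obtain ⟨c, rfl⟩ := Ideal.Quotient.mk_surjective x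
      obtain ⟨p, rfl⟩ := hf c
      exact ⟨φR p, hfR p⟩
    have hflat := flat_quotient hdiv hC
    have hft : Algebra.FiniteType (O ⧸ 𝔪) C' := Algebra.FiniteType.of_surjective fR hfRs
    have hfpR : Algebra.FinitePresentation (O ⧸ 𝔪) C' := Groth.Agent.S0406.result
    have hkerR : (RingHom.ker fR).FG :=
      Algebra.FinitePresentation.ker_fG_of_surjective fR hfRs
    have hφRker : ∀ p : P, φR p = 0 ↔ ∀ α, coeff α p ∈ 𝔪 := by
      intro p
      rw [MvPolynomial.ext_iff]
      refine forall_congr' fun α ↦ ?_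
      rw [MvPolynomial.coeff_map, MvPolynomial.coeff_zero, Ideal.Quotient.eq_zero_iff_mem]
    have hkerR' : (RingHom.ker f).map φR = RingHom.ker fR := by
      apply le_antisymm
      · rw [Ideal.map_le_iff_le_comap]
        intro p hp
        rw [RingHom.mem_ker] at hp
        rw [Ideal.mem_comap, RingHom.mem_ker, hfR, hp, map_zero]
      · intro F hF
        obtain ⟨G, rfl⟩ := hφRs F
        rw [RingHom.mem_ker, hfR] at hF
        have h1 : f G ∈ 𝔪.map (algebraMap O C) := Ideal.Quotient.eq_zero_iff_mem.mp hF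
        have h2 : 𝔪.map (algebraMap O C) = (𝔪.map (MvPolynomial.C : O →+* P)).map f.toRingHom := by
          rw [Ideal.map_map]
          congr 1
          exact (f.comp_algebraMap).symm
        rw [h2, Ideal.mem_map_iff_of_surjective f.toRingHom hf] at h1
        obtain ⟨H, hH, hH'⟩ := h1
        replace hH' : f H = f G := hH'
        have h3 : φR G = φR (G - H) := by
          have : φR H = 0 := by
            rw [hφRker, ← MvPolynomial.mem_map_C_iff]
            exact hH
          rw [map_sub, this, sub_zero]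
        rw [h3]
        refine Ideal.mem_map_of_mem _ ?_
        rw [RingHom.mem_ker, map_sub, hH', sub_self]
    obtain ⟨J₂, hJ₂, hJ₂fg, hJ₂map⟩ := exists_fg_le φR (RingHom.ker f) (by rw [hkerR']; exact hkerR)
    have key : RingHom.ker f = J₁ ⊔ J₂ := by
      apply le_antisymm
      · intro g hg
        have h1 : φR g ∈ J₂.map φR := by
          rw [hJ₂map]
          exact Ideal.mem_map_of_mem _ hg
        rw [Ideal.mem_map_iff_of_surjective _ hφRs] at h1
        obtain ⟨g', hg', hgg⟩ := h1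
        have h2 : g - g' ∈ 𝔪.map (MvPolynomial.C : O →+* P) * RingHom.ker f := by
          apply mem_map_mul 𝔪 f hf
          · rw [← hφRker, map_sub, hgg, sub_self]
          · have h3 : f g' = 0 := hJ₂ hg'
            rw [map_sub, (RingHom.mem_ker.mp hg), h3, sub_zero]
        have h3 : 𝔪.map (MvPolynomial.C : O →+* P) * RingHom.ker f ≤ J₁ := by
          rw [Ideal.mul_le]
          intro m hm p hp
          have h4 : φA p ∈ J₁.map φA := by
            rw [hJ₁map]
            exact Ideal.mem_map_of_mem _ hp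
          obtain ⟨⟨⟨G, hG⟩, ⟨_, s, hs, rfl⟩⟩, hG'⟩ := (IsLocalization.mem_map_algebraMap_iff
            (𝔪.primeCompl.map (MvPolynomial.C (σ := Fin n))) (MvPolynomial (Fin n) A)).mp h4
          change φA p * φA (MvPolynomial.C s) = φA G at hG'
          rw [← map_mul] at hG'
          have h5 : p * MvPolynomial.C s = G := MvPolynomial.map_injective _ hinj hG'
          have h6 : ∀ m ∈ 𝔪, MvPolynomial.C m * p ∈ J₁ := by
            intro m hm
            obtain ⟨m', -, rfl⟩ := hdiv s hs m hm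
            have : MvPolynomial.C (s * m') * p = MvPolynomial.C m' * G := by
              rw [← h5, map_mul]
              ring
            rw [this]
            exact Ideal.mul_mem_left _ _ hG
          refine Submodule.span_induction ?_ ?_ ?_ ?_ hm
          · rintro _ ⟨m, hm, rfl⟩
            exact h6 m hm
          · rw [zero_mul]
            exact Ideal.zero_mem _
          · intro x y _ _ hx hy
            rw [add_mul]
            exact Ideal.add_mem _ hx hy
          · intro a x _ hx
            rw [smul_eq_mul, mul_assoc]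
            exact Ideal.mul_mem_left _ _ hx
        have h4 : g = (g - g') + g' := by ring
        rw [h4]
        exact Ideal.add_mem _ (Ideal.mem_sup_left (h3 h2)) (Ideal.mem_sup_right hg')
      · exact sup_le hJ₁ hJ₂
    rw [key]
    exact Submodule.FG.sup hJ₁fg hJ₂fg
  exact Algebra.FinitePresentation.of_surjective hf hker

end FP

end K70.SemiVal
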